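import Mathlib.Data.Nat.GCD.Basic
import Mathlib.Algebra.BigOperators.Group.Finset.Basic
import Mathlib.Algebra.Order.BigOperators.Group.Finset
import Mathlib.Data.Nat.Prime.Basic
import Mathlib.Tactic.NormNum.Prime
import Mathlib.Tactic.Ring
import Mathlib.Tactic.LinearCombination
import Mathlib.Tactic.Linarith
import Mathlib.Tactic.IntervalCases

/-!
# The arithmetic of `q² - q + 1 = (q + 1 - 3p)(q + 1 + 3p)`, `q = 3p²`
-/

set_option autoImplicit false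

namespace Cfsg.Lib.PiOdd

/-- Pairwise coprime proper divisors of a number with no prime below seven are small. -/
theorem three_mul_sum_lt {a : ℕ} (ha : 1 < a) (hp : ∀ r, r.Prime → r ∣ a → 7 ≤ r) (S : Finset ℕ)
    (h2 : ∀ k ∈ S, 2 ≤ k) (hd : ∀ k ∈ S, k ∣ a)
    (hc : ∀ k ∈ S, ∀ l ∈ S, k ≠ l → k.Coprime l) (hne : a ∉ S) :
    3 * ∑ k ∈ S, (k - 1) < a - 1 := by
  have h7 : ∀ k, 2 ≤ k → k ∣ a → 7 ≤ k := fun k hk hka => by
    obtain ⟨r, hr, hrk⟩ := Nat.exists_prime_and_dvd (show k ≠ 1 by omega)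
    exact (hp r hr (hrk.trans hka)).trans (Nat.le_of_dvd (by omega) hrk)
  have key : ∀ U : Finset ℕ, U ⊆ S → U.Nonempty →
      ∑ k ∈ U, (k - 1) + 1 ≤ ∏ k ∈ U, k ∧ 7 ≤ ∏ k ∈ U, k ∧ ∏ k ∈ U, k ∣ a ∧
        ∀ l ∈ S, l ∉ U → l.Coprime (∏ k ∈ U, k) := by
    intro U
    induction U using Finset.induction_on with
    | empty => exact fun _ h => absurd h Finset.not_nonempty_empty
    | insert x U hx ih =>
      intro hU _
      have hxS := hU (Finset.mem_insert_self x U)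
      have hU' : U ⊆ S := (Finset.subset_insert x U).trans hU
      have hx7 := h7 x (h2 x hxS) (hd x hxS)
      rcases U.eq_empty_or_nonempty with rfl | hn
      · simp only [insert_empty_eq, Finset.sum_singleton, Finset.prod_singleton, Finset.mem_singleton]
        exact ⟨by omega, hx7, hd x hxS, fun l hl hlx => hc l hl x hxS hlx⟩
      obtain ⟨i1, i2, i3, i4⟩ := ih hU' hn
      rw [Finset.sum_insert hx, Finset.prod_insert hx]
      refine ⟨?_, by nlinarith, (i4 x hxS hx).mul_dvd_of_dvd_of_dvd (hd x hxS) i3, fun l hl hlU => ?_⟩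
      · have h3 : x * 2 ≤ x * (∏ k ∈ U, k) := Nat.mul_le_mul_left x (by omega)
        have h4 : 2 * (∏ k ∈ U, k) ≤ x * (∏ k ∈ U, k) := Nat.mul_le_mul_right _ (by omega)
        omega
      · simp only [Finset.mem_insert, not_or] at hlU
        exact Nat.Coprime.mul_right (hc l hl x hxS hlU.1) (i4 l hl hlU.2)
  rcases S.eq_empty_or_nonempty with rfl | ⟨r, hr⟩
  · simp; omega
  have hr7 := h7 r (h2 r hr) (hd r hr)
  rw [← Finset.add_sum_erase S _ hr]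
  rcases (S.erase r).eq_empty_or_nonempty with he | hn
  · rw [he, Finset.sum_empty]
    obtain ⟨c, hca⟩ := hd r hr
    have hc7 : 7 ≤ c := h7 c (by
      rcases c with _ | _ | c
      · omega
      · exact absurd (by rw [hca, zero_add, mul_one]; exact hr) hne
      · omega) ⟨r, by rw [hca, mul_comm]⟩
    have : r * 7 ≤ r * c := Nat.mul_le_mul_left r hc7
    omega
  obtain ⟨i1, i2, i3, i4⟩ := key _ (Finset.erase_subset r S) hn
  have hrP : r * ∏ k ∈ S.erase r, k ∣ a :=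
    (i4 r hr (Finset.notMem_erase r S)).mul_dvd_of_dvd_of_dvd (hd r hr) i3
  have hle := Nat.le_of_dvd (by omega) hrP
  generalize ∑ k ∈ S.erase r, (k - 1) = s at i1 ⊢
  generalize ∏ k ∈ S.erase r, k = P at *
  obtain ⟨u, rfl⟩ : ∃ u, r = 7 + u := ⟨r - 7, by omega⟩
  obtain ⟨v, rfl⟩ : ∃ v, P = 7 + v := ⟨P - 7, by omega⟩
  rw [show (7 + u) * (7 + v) = 49 + 7 * u + 7 * v + u * v by ring] at hle
  omega

/-- The smaller factor. -/
def facA (n : ℕ) : ℕ := 3 ^ (2 * n + 1) + 1 - 3 ^ (n + 1)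

/-- The larger factor. -/
def facB (n : ℕ) : ℕ := 3 ^ (2 * n + 1) + 1 + 3 ^ (n + 1)

theorem q_eq (n : ℕ) : 3 ^ (2 * n + 1) = 3 * (3 ^ n * 3 ^ n) := by
  rw [← pow_add, ← pow_succ']; congr 1; omega

theorem facA_cast {n : ℕ} (hn : 1 ≤ n) :
    (facA n : ℤ) = 3 * ((3 ^ n : ℕ) : ℤ) ^ 2 - 3 * ((3 ^ n : ℕ) : ℤ) + 1 ∧ 7 ≤ facA n := by
  have h3 : 3 ≤ 3 ^ n := Nat.le_self_pow (by omega) 3
  rw [facA, q_eq, pow_succ' 3 n]
  generalize 3 ^ n = p at h3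
  have h := Nat.mul_le_mul_left p h3
  refine ⟨?_, by omega⟩
  rw [Nat.cast_sub (by omega)]
  push_cast
  ring

theorem facB_cast (n : ℕ) :
    (facB n : ℤ) = 3 * ((3 ^ n : ℕ) : ℤ) ^ 2 + 3 * ((3 ^ n : ℕ) : ℤ) + 1 := by
  rw [facB, q_eq, pow_succ' 3 n]
  push_cast
  ring

theorem fac_mul {n : ℕ} (hn : 1 ≤ n) :
    facA n * facB n = (3 ^ (2 * n + 1)) ^ 2 - 3 ^ (2 * n + 1) + 1 := by
  have hA := (facA_cast hn).1
  have hB := facB_cast n
  refine Nat.cast_injective (R := ℤ) ?_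
  rw [Nat.cast_add, Nat.cast_sub (Nat.le_self_pow two_ne_zero _), Nat.cast_mul, hA, hB, q_eq]
  push_cast
  ring

theorem fac_sum {n : ℕ} (hn : 1 ≤ n) : facA n - 1 + (facB n - 1) = 2 * 3 ^ (2 * n + 1) := by
  have h := (facA_cast hn).2
  have hle : 3 ^ (n + 1) ≤ 3 ^ (2 * n + 1) := Nat.pow_le_pow_right (by norm_num) (by omega)
  unfold facA at h ⊢
  unfold facB
  generalize 3 ^ (2 * n + 1) = q at *
  generalize 3 ^ (n + 1) = c at *
  omega

theorem fac_coprime {n : ℕ} (_hn : 1 ≤ n) : (facA n).Coprime (facB n) := by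
  have hle : 3 ^ (n + 1) ≤ 3 ^ (2 * n + 1) := Nat.pow_le_pow_right (by norm_num) (by omega)
  have hB : facB n = facA n + 2 * 3 ^ (n + 1) := by unfold facA facB; omega
  rw [hB, Nat.coprime_self_add_right, facA]
  have ho : (3 ^ (2 * n + 1) + 1 - 3 ^ (n + 1)) % 2 = 1 := by
    have h1 : 3 ^ (2 * n + 1) % 2 = 1 := by rw [Nat.pow_mod]; norm_num
    have h2 : 3 ^ (n + 1) % 2 = 1 := by rw [Nat.pow_mod]; norm_num
    omega
  refine Nat.Coprime.mul_right (Nat.coprime_two_right.2 (Nat.odd_iff.2 ho)) (Nat.Coprime.pow_right _ ?_)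
  refine Nat.Coprime.symm ((Nat.prime_three.coprime_iff_not_dvd).2 ?_)
  have h1 : 3 ∣ 3 ^ (2 * n + 1) := dvd_pow_self 3 (by omega)
  have h2 : 3 ∣ 3 ^ (n + 1) := dvd_pow_self 3 (by omega)
  omega

theorem fac_congr {n : ℕ} (hn : 1 ≤ n) :
    (facA n : ℤ) ∣ ((3 ^ (2 * n + 1) : ℕ) : ℤ) ^ 3 * (((3 ^ (2 * n + 1) : ℕ) : ℤ) ^ 2 - 1) *
        (facB n : ℤ) - 6 ∧
      (facB n : ℤ) ∣ ((3 ^ (2 * n + 1) : ℕ) : ℤ) ^ 3 * (((3 ^ (2 * n + 1) : ℕ) : ℤ) ^ 2 - 1) *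
        (facA n : ℤ) - 6 := by
  rw [(facA_cast hn).1, facB_cast n, q_eq]
  push_cast
  generalize ((3 : ℤ) ^ n) = p
  exact ⟨⟨-6 - 18 * p - 36 * p ^ 2 - 54 * p ^ 3 - 54 * p ^ 4 + 135 * p ^ 6 + 324 * p ^ 7 + 486 * p ^ 8 +
      486 * p ^ 9 + 243 * p ^ 10, by ring⟩,
    ⟨-6 + 18 * p - 36 * p ^ 2 + 54 * p ^ 3 - 54 * p ^ 4 + 135 * p ^ 6 - 324 * p ^ 7 + 486 * p ^ 8 -
      486 * p ^ 9 + 243 * p ^ 10, by ring⟩⟩

/-- No prime below seven divides `q² - q + 1`. -/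
theorem seven_le_prime {n r : ℕ} (hr : r.Prime)
    (hd : r ∣ (3 ^ (2 * n + 1)) ^ 2 - 3 ^ (2 * n + 1) + 1) : 7 ≤ r := by
  by_contra hlt
  have h2 := hr.two_le
  set q := 3 ^ (2 * n + 1) with hq
  have hq2 : q ≤ q ^ 2 := Nat.le_self_pow two_ne_zero q
  have h3 : 3 ∣ q := dvd_pow_self 3 (by omega)
  have hodd : q % 2 = 1 := by rw [hq, Nat.pow_mod]; norm_num
  have h5 : q % 5 = 3 ∨ q % 5 = 2 := by
    have h9 : ∀ m, 9 ^ m % 5 = 1 ∨ 9 ^ m % 5 = 4 := fun m => by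
      induction m with
      | zero => exact Or.inl rfl
      | succ m ih => rw [pow_succ]; omega
    rw [hq, pow_succ, pow_mul, show (3 : ℕ) ^ 2 = 9 by rfl]
    have := h9 n
    omega
  have hr5 : r = 2 ∨ r = 3 ∨ r = 5 := by
    have hr7 : r < 7 := by omega
    interval_cases r <;> first | exact Or.inl rfl | exact Or.inr (Or.inl rfl) | exact Or.inr (Or.inr rfl) | exact absurd hr (by norm_num)
  have hsq : q ^ 2 % 5 = 4 := by rw [Nat.pow_mod]; rcases h5 with h | h <;> rw [h]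
  have hsq2 : q ^ 2 % 2 = 1 := by rw [Nat.pow_mod, hodd]
  have hsq3 : 3 ∣ q ^ 2 := dvd_pow h3 two_ne_zero
  rcases hr5 with rfl | rfl | rfl <;> omega

end Cfsg.Lib.PiOdd
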