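import Cfsg.Agent.Lib.PiOdd.Count
import Cfsg.Agent.Lib.PiOdd.Arith

/-!
# Every prime of `q² - q + 1` is the order of a real element

The centralizers of the counted products are abelian TI subgroups of coprime orders dividing one of
the two factors, and only the two whole factors are large enough.
-/

set_option autoImplicit false
set_option linter.unusedSectionVars false
set_option linter.style.haveILetI false

namespace Cfsg.Lib.PiOdd.Ctx

open Subgroup Cfsg Cfsg.Lib.ReeType MulAction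

universe u v

variable {G : Type u} {L : Type v} [Group G] [Group L] [Finite G] {n T : ℕ} (C : Ctx G L n T)

/-- Odd elements keep the two factors of `q² - q + 1` apart. -/
def Separated (_C : Ctx G L n T) : Prop :=
  ∀ g : G, ¬ 2 ∣ orderOf g → ∀ r s : ℕ, r.Prime → s.Prime → r ∣ facA n → s ∣ facB n →
    r ∣ orderOf g → s ∣ orderOf g → False

theorem dd_eq : C.dd = facA n * facB n := (fac_mul C.S.one_le).symm

variable [IsSimpleGroup G]

theorem odd_dd : Odd C.dd := by
  rw [Nat.odd_iff]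
  by_contra h
  exact (C.dd_prime Nat.prime_two (Nat.dvd_of_mod_eq_zero (by omega))).2.2.2.1 rfl

theorem coprime_dd_cent_t : (Nat.card (centralizer ({C.S.t} : Set G))).Coprime C.dd := by
  refine Nat.coprime_of_dvd fun p hp h1 h2 => ?_
  obtain ⟨k1, k2, k3, -, -⟩ := C.dd_prime hp h2
  rw [C.card_cent_t, hp.dvd_mul, show C.q * C.q - 1 = (C.q + 1) * (C.q - 1) by
    rw [← Nat.sq_sub_sq, sq, one_pow], hp.dvd_mul] at h1
  tauto

theorem inverts_cent {g a : G} (hg : C.DType g) (ha : IsInvol a) (hag : a * g * a⁻¹ = g⁻¹) :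
    ∀ z ∈ centralizer ({g} : Set G), a * z * a⁻¹ = z⁻¹ := by
  set Z := centralizer ({g} : Set G) with hZ
  have hmem : ∀ z ∈ Z, a * z * a⁻¹ ∈ Z := by
    intro z hz
    rw [hZ, mem_centralizer_singleton_iff] at hz ⊢
    have h2 : a * g⁻¹ * a⁻¹ = g := by rw [← conj_inv, hag, inv_inv]
    calc a * z * a⁻¹ * g = a * z * a⁻¹ * (a * g⁻¹ * a⁻¹) := by rw [h2]
      _ = a * (z * g⁻¹) * a⁻¹ := by group
      _ = a * (g⁻¹ * z) * a⁻¹ := by rw [((show Commute z g from hz).inv_right).eq]
      _ = a * g⁻¹ * a⁻¹ * (a * z * a⁻¹) := by group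
      _ = g * (a * z * a⁻¹) := by rw [h2]
  have hfix : ∀ z ∈ Z, a * z * a⁻¹ = z → z = 1 := by
    intro z hz hza
    obtain ⟨k, hk⟩ := C.S.exists_conj_t C.hna ha.2 ha.1
    have hc : k⁻¹ * z * k ∈ centralizer ({C.S.t} : Set G) := mem_centralizer_singleton_iff.2 (by
      have h := mul_inv_eq_iff_eq_mul.1 hza
      have h' : k⁻¹ * (a * z) * k = k⁻¹ * (z * a) * k := by rw [h]
      rw [← hk] at h'
      calc k⁻¹ * z * k * C.S.t = k⁻¹ * (z * (k * C.S.t * k⁻¹)) * k := by group
        _ = k⁻¹ * (k * C.S.t * k⁻¹ * z) * k := h'.symm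
        _ = C.S.t * (k⁻¹ * z * k) := by group)
    have h1 := Subgroup.orderOf_dvd_natCard _ hc
    rw [show k⁻¹ * z * k = MulAut.conj k⁻¹ z by simp, MulEquiv.orderOf_eq] at h1
    exact orderOf_eq_one_iff.1 (Nat.eq_one_of_dvd_coprimes C.coprime_dd_cent_t h1
      ((Subgroup.orderOf_dvd_natCard _ hz).trans (C.card_cent_dvd hg)))
  let f : Z → Z := fun z => ⟨(z : G)⁻¹ * (a * z * a⁻¹), mul_mem (inv_mem z.2) (hmem _ z.2)⟩
  have hf : Function.Injective f := by
    intro x y h
    have h' : (x : G)⁻¹ * (a * x * a⁻¹) = (y : G)⁻¹ * (a * y * a⁻¹) := congrArg Subtype.val h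
    have := hfix ((y : G) * (x : G)⁻¹) (mul_mem y.2 (inv_mem x.2)) (by
      calc a * ((y : G) * (x : G)⁻¹) * a⁻¹ = a * y * a⁻¹ * (a * x * a⁻¹)⁻¹ := by group
        _ = y * ((y : G)⁻¹ * (a * y * a⁻¹)) * ((x : G)⁻¹ * (a * x * a⁻¹))⁻¹ * (x : G)⁻¹ := by group
        _ = y * (x : G)⁻¹ := by rw [h']; group)
    exact Subtype.ext (mul_inv_eq_one.1 this).symm
  intro z hz
  obtain ⟨x, hx⟩ := Finite.surjective_of_injective hf ⟨z, hz⟩
  have hx' : (x : G)⁻¹ * (a * x * a⁻¹) = z := congrArg Subtype.val hx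
  rw [← hx']
  calc a * ((x : G)⁻¹ * (a * x * a⁻¹)) * a⁻¹ = (a * x * a⁻¹)⁻¹ * ((a * a) * x * (a * a)⁻¹) := by group
    _ = (a * x * a⁻¹)⁻¹ * x := by rw [ha.2]; group
    _ = ((x : G)⁻¹ * (a * x * a⁻¹))⁻¹ := by group

theorem cent_comm {g : G} (hg : C.RealD g) :
    ∀ x ∈ centralizer ({g} : Set G), ∀ y ∈ centralizer ({g} : Set G), x * y = y * x := by
  obtain ⟨hD, a, ha, hag⟩ := hg
  intro x hx y hy
  have hxy := C.inverts_cent hD ha hag _ (mul_mem hx hy)
  rw [conj_mul', C.inverts_cent hD ha hag x hx, C.inverts_cent hD ha hag y hy, ← mul_inv_rev] at hxy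
  exact (inv_injective hxy).symm

/-- The centralizers are TI. -/
theorem cent_eq {g y : G} (hg : C.RealD g) (hy : y ∈ centralizer ({g} : Set G)) (hy1 : y ≠ 1) :
    C.RealD y ∧ centralizer ({y} : Set G) = centralizer ({g} : Set G) := by
  obtain ⟨hD, a, ha, hag⟩ := hg
  have hdy : orderOf y ∣ C.dd := (Subgroup.orderOf_dvd_natCard _ hy).trans (C.card_cent_dvd hD)
  obtain ⟨r, hr, hro⟩ := Nat.exists_prime_and_dvd (fun h => hy1 (orderOf_eq_one_iff.1 h))
  have hyR : C.RealD y := ⟨⟨r, hr, hro.trans hdy, hro⟩, a, ha, C.inverts_cent hD ha hag y hy⟩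
  refine ⟨hyR, le_antisymm (fun x hx => ?_) fun x hx => ?_⟩
  · exact mem_centralizer_singleton_iff.2 (C.cent_comm hyR x hx g (mem_centralizer_singleton_iff.2
      (mem_centralizer_singleton_iff.1 hy).symm))
  · exact mem_centralizer_singleton_iff.2 (C.cent_comm ⟨hD, a, ha, hag⟩ x hx y hy)

theorem realD_conj {g : G} (hg : C.RealD g) (h : G) : C.RealD (h * g * h⁻¹) := by
  obtain ⟨⟨r, h1, h2, h3⟩, a, ha, hag⟩ := hg
  refine ⟨⟨r, h1, h2, ?_⟩, h * a * h⁻¹, ha.conj h, ?_⟩
  · rwa [show h * g * h⁻¹ = MulAut.conj h g from rfl, MulEquiv.orderOf_eq]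
  · calc h * a * h⁻¹ * (h * g * h⁻¹) * (h * a * h⁻¹)⁻¹ = h * (a * g * a⁻¹) * h⁻¹ := by group
      _ = (h * g * h⁻¹)⁻¹ := by rw [hag]; group

theorem one_lt_card_cent {g : G} (hg : C.DType g) : 1 < Nat.card (centralizer ({g} : Set G)) := by
  obtain ⟨r, hr, -, hro⟩ := hg
  have h1 : orderOf g ∣ Nat.card (centralizer ({g} : Set G)) :=
    Subgroup.orderOf_dvd_natCard _ (mem_centralizer_singleton_iff.2 rfl)
  have h2 := Nat.le_of_dvd (orderOf_pos g) hro
  have h3 := Nat.le_of_dvd Nat.card_pos h1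
  have := hr.two_le
  omega

/-- A centralizer contains a full Sylow subgroup for each of its primes. -/
theorem exists_sylow_le {g : G} (hg : C.RealD g) {r : ℕ} [Fact r.Prime]
    (hr : r ∣ Nat.card (centralizer ({g} : Set G))) :
    ∃ R : Sylow r G, (R : Subgroup G) ≤ centralizer ({g} : Set G) := by
  obtain ⟨x, hx⟩ := exists_prime_orderOf_dvd_card' r hr
  have hxo : orderOf (x : G) = r := by rw [orderOf_coe, hx]
  obtain ⟨R, hR⟩ := (IsPGroup.of_card (n := 1) (by rw [Nat.card_zpowers, hxo, pow_one]) :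
    IsPGroup r (zpowers (x : G))).exists_le_sylow
  have hxR : (x : G) ∈ (R : Subgroup G) := hR (mem_zpowers _)
  have hx1 : (x : G) ≠ 1 := fun h => by
    rw [h, orderOf_one] at hxo; exact (Fact.out : r.Prime).ne_one hxo.symm
  haveI : Nontrivial (R : Subgroup G) :=
    ⟨⟨⟨(x : G), hxR⟩, 1, fun h => hx1 (congrArg Subtype.val h)⟩⟩
  haveI := IsPGroup.center_nontrivial R.isPGroup'
  obtain ⟨z, hz⟩ := exists_ne (1 : center (R : Subgroup G))
  have hz1 : ((z : (R : Subgroup G)) : G) ≠ 1 := fun h => hz (Subtype.ext (Subtype.ext h))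
  have hzc : ∀ y ∈ (R : Subgroup G), y * ((z : (R : Subgroup G)) : G) = ((z : (R : Subgroup G)) : G) * y :=
    fun y hy => congrArg Subtype.val (mem_center_iff.1 z.2 ⟨y, hy⟩)
  obtain ⟨-, e⟩ := C.cent_eq hg x.2 hx1
  have hzZ : ((z : (R : Subgroup G)) : G) ∈ centralizer ({g} : Set G) :=
    e ▸ mem_centralizer_singleton_iff.2 (hzc _ hxR).symm
  obtain ⟨-, e'⟩ := C.cent_eq hg hzZ hz1
  exact ⟨R, fun y hy => e' ▸ mem_centralizer_singleton_iff.2 (hzc y hy)⟩

/-- Two of them with a common prime are conjugate. -/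
theorem conj_of_common {g g' : G} (hg : C.RealD g) (hg' : C.RealD g') {r : ℕ} (hr : r.Prime)
    (h : r ∣ Nat.card (centralizer ({g} : Set G))) (h' : r ∣ Nat.card (centralizer ({g'} : Set G))) :
    ∃ k : G, centralizer ({g'} : Set G) = centralizer ({k * g * k⁻¹} : Set G) := by
  haveI : Fact r.Prime := ⟨hr⟩
  obtain ⟨R, hR⟩ := C.exists_sylow_le hg h
  obtain ⟨R', hR'⟩ := C.exists_sylow_le hg' h'
  obtain ⟨k, hk⟩ := exists_smul_eq G R R'
  obtain ⟨x, hx⟩ := exists_prime_orderOf_dvd_card' r h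
  have hxo : orderOf (x : G) = r := by rw [orderOf_coe, hx]
  obtain ⟨y, hy, hy1⟩ : ∃ y ∈ (R : Subgroup G), y ≠ 1 := by
    by_contra hall
    push Not at hall
    have : Nat.card (R : Subgroup G) = 1 := by
      rw [Subgroup.card_eq_one, eq_bot_iff]; exact fun y hy => mem_bot.2 (hall y hy)
    rw [R.card_eq_multiplicity, Nat.pow_eq_one] at this
    rcases this with e | e
    · exact hr.ne_one e
    · exact (hr.factorization_pos_of_dvd Nat.card_pos.ne' (hxo ▸ orderOf_dvd_natCard (x : G))).ne' e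
  obtain ⟨-, e⟩ := C.cent_eq hg (hR hy) hy1
  have hy' : k * y * k⁻¹ ∈ centralizer ({g'} : Set G) := hR' (by
    rw [← hk, Sylow.coe_subgroup_smul]; exact ⟨y, hy, rfl⟩)
  obtain ⟨-, e'⟩ := C.cent_eq hg' hy' (fun h => hy1 (conj_eq_one_iff.1 h))
  refine ⟨k, ?_⟩
  rw [← e']
  ext z
  have hz : z ∈ centralizer ({k * y * k⁻¹} : Set G) ↔ k⁻¹ * z * k ∈ centralizer ({y} : Set G) := by
    rw [mem_centralizer_singleton_iff, mem_centralizer_singleton_iff,
      show k⁻¹ * z * k * y = k⁻¹ * (z * (k * y * k⁻¹)) * k by group,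
      show y * (k⁻¹ * z * k) = k⁻¹ * (k * y * k⁻¹ * z) * k by group, mul_left_inj, mul_right_inj]
  rw [hz, e, mem_centralizer_singleton_iff, mem_centralizer_singleton_iff,
    show k⁻¹ * z * k * g = k⁻¹ * (z * (k * g * k⁻¹)) * k by group,
    show g * (k⁻¹ * z * k) = k⁻¹ * (k * g * k⁻¹ * z) * k by group, mul_left_inj, mul_right_inj]

theorem cent_conj (g k : G) :
    centralizer ({k * g * k⁻¹} : Set G) = (centralizer ({g} : Set G)).map (MulAut.conj k).toMonoidHom := by
  ext z
  rw [mem_map, mem_centralizer_singleton_iff]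
  constructor
  · intro h
    refine ⟨k⁻¹ * z * k, mem_centralizer_singleton_iff.2 ?_, by simp [mul_assoc]⟩
    rw [show k⁻¹ * z * k * g = k⁻¹ * (z * (k * g * k⁻¹)) * k by group, h]; group
  · rintro ⟨w, hw, rfl⟩
    show k * w * k⁻¹ * (k * g * k⁻¹) = k * g * k⁻¹ * (k * w * k⁻¹)
    rw [← conj_mul', ← conj_mul', mem_centralizer_singleton_iff.1 hw]

theorem card_cent_conj (g k : G) :
    Nat.card (centralizer ({k * g * k⁻¹} : Set G)) = Nat.card (centralizer ({g} : Set G)) := by
  rw [cent_conj]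
  exact Nat.card_congr (equivMapOfInjective _ _ (MulAut.conj k).injective).toEquiv.symm

/-- The inverting involution lies in the normalizer. -/
theorem two_mul_le_norm {g : G} (hg : C.RealD g) :
    2 * Nat.card (centralizer ({g} : Set G)) ≤
        Nat.card (normalizer ((centralizer ({g} : Set G) : Subgroup G) : Set G)) ∧
      2 ∣ (centralizer ({g} : Set G)).relIndex (normalizer ((centralizer ({g} : Set G) : Subgroup G) : Set G)) := by
  obtain ⟨hD, a, ha, hag⟩ := hg
  set Z := centralizer ({g} : Set G) with hZ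
  have haN : a ∈ normalizer (Z : Set G) := by
    rw [mem_normalizer_iff]
    intro z
    refine ⟨fun hz => ?_, fun hz => ?_⟩
    · rw [C.inverts_cent hD ha hag z hz]; exact inv_mem hz
    · have h := C.inverts_cent hD ha hag _ hz
      rw [show a * (a * z * a⁻¹) * a⁻¹ = (a * a) * z * (a * a)⁻¹ by group, ha.2, one_mul, inv_one,
        mul_one] at h
      rw [h]; exact inv_mem hz
  have h2 : 2 ∣ Z.relIndex (normalizer (Z : Set G)) := by
    have h1 : 2 ∣ Nat.card (normalizer (Z : Set G)) := by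
      rw [← orderOf_eq_prime (p := 2) (x := a) (by rw [sq, ha.2]) ha.1]
      exact Subgroup.orderOf_dvd_natCard _ haN
    have h3 : Nat.card Z * Z.relIndex (normalizer (Z : Set G)) = Nat.card (normalizer (Z : Set G)) := by
      rw [← relIndex_bot_left (H := Z), ← relIndex_bot_left (H := normalizer (Z : Set G))]
      exact relIndex_mul_relIndex _ _ _ bot_le le_normalizer
    rw [← h3, Nat.prime_two.dvd_mul] at h1
    refine h1.resolve_left fun h => ?_
    have h5 : C.dd % 2 = 0 := Nat.mod_eq_zero_of_dvd (h.trans (C.card_cent_dvd hD))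
    rw [Nat.odd_iff.1 C.odd_dd] at h5
    exact one_ne_zero h5
  refine ⟨?_, h2⟩
  have h3 : Nat.card Z * Z.relIndex (normalizer (Z : Set G)) = Nat.card (normalizer (Z : Set G)) := by
    rw [← relIndex_bot_left (H := Z), ← relIndex_bot_left (H := normalizer (Z : Set G))]
    exact relIndex_mul_relIndex _ _ _ bot_le le_normalizer
  rw [← h3, mul_comm]
  exact Nat.mul_le_mul_left _ (Nat.le_of_dvd (Nat.pos_of_ne_zero (index_ne_zero_of_finite)) h2)

/-- A full factor is normalized by at least six times itself. -/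
theorem six_mul_le_norm {g : G} (hg : C.RealD g) {m m' : ℕ} (hmm : m * m' = C.dd) (hcop : m.Coprime m')
    (hm7 : 7 ≤ m) (hcard : Nat.card (centralizer ({g} : Set G)) = m)
    (hcong : (m : ℤ) ∣ (C.q : ℤ) ^ 3 * ((C.q : ℤ) ^ 2 - 1) * (m' : ℤ) - 6) :
    6 * m ≤ Nat.card (normalizer ((centralizer ({g} : Set G) : Subgroup G) : Set G)) := by
  classical
  set Z := centralizer ({g} : Set G) with hZ
  set N := normalizer (Z : Set G) with hN
  set w := Z.relIndex N with hw
  obtain ⟨-, hw2⟩ := C.two_mul_le_norm hg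
  have hNc : m * w = Nat.card N := by
    rw [← hcard, hw, ← relIndex_bot_left (H := Z), ← relIndex_bot_left (H := N)]
    exact relIndex_mul_relIndex _ _ _ bot_le le_normalizer
  rw [← hNc, mul_comm]
  refine Nat.mul_le_mul_left m ?_
  by_contra hlt
  have hwpos : 0 < w := Nat.pos_of_ne_zero (index_ne_zero_of_finite)
  have hw24 : w = 2 ∨ w = 4 := by
    obtain ⟨c, hc⟩ := hw2
    rw [← hw] at hc
    omega
  haveI : Fintype Z := Fintype.ofFinite _
  haveI : Fintype (G ⧸ N) := Fintype.ofFinite _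
  -- only the trivial coset is fixed
  have hfix : ∀ y : Z, y ≠ 1 → ∀ x : G ⧸ N, y • x = x → x = ((1 : G) : G ⧸ N) := by
    intro y hy x hx
    induction x using QuotientGroup.induction_on with
    | H k =>
      have hmem : k⁻¹ * y * k ∈ N := by
        have h : ((y : G) * k : G ⧸ N) = (k : G ⧸ N) := hx
        rw [QuotientGroup.eq] at h
        have h' := inv_mem h
        simpa [mul_assoc] using h'
      have hy1 : k⁻¹ * (y : G) * k ≠ 1 := fun h => hy (Subtype.ext (by
        rw [show (y : G) = k * (k⁻¹ * y * k) * k⁻¹ by group, h]; simp))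
      haveI : (Z.subgroupOf N).Normal := normal_subgroupOf_iff_le_normalizer le_normalizer |>.2 le_rfl
      have hmem' : k⁻¹ * (y : G) * k ∈ Z := by
        have hpow : (⟨_, hmem⟩ : N) ^ w ∈ Z.subgroupOf N := by
          rw [hw, relIndex]; exact pow_index_mem _ _
        have hordd : (orderOf (k⁻¹ * (y : G) * k)).Coprime w := by
          rw [show k⁻¹ * (y : G) * k = MulAut.conj k⁻¹ (y : G) by simp, MulEquiv.orderOf_eq]
          refine Nat.Coprime.coprime_dvd_left ((Subgroup.orderOf_dvd_natCard _ y.2).trans (dvd_of_eq hcard)) ?_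
          have hmo : Odd m := Odd.of_dvd_nat C.odd_dd ⟨m', hmm.symm⟩
          rcases hw24 with e | e <;> rw [e]
          · exact Nat.coprime_two_right.2 hmo
          · rw [show (4 : ℕ) = 2 ^ 2 from rfl]
            exact (Nat.coprime_two_right.2 hmo).pow_right 2
        obtain ⟨j, hj⟩ := exists_pow_eq_self_of_coprime hordd.symm
        rw [← hj]
        exact pow_mem hpow j
      obtain ⟨-, e⟩ := C.cent_eq hg hmem' hy1
      obtain ⟨-, e1⟩ := C.cent_eq hg y.2 (fun h => hy (Subtype.ext h))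
      have hmap : Z.map (MulAut.conj k⁻¹).toMonoidHom = Z := by
        have h := cent_conj (y : G) k⁻¹
        rw [inv_inv, e, e1] at h
        exact h.symm
      refine (QuotientGroup.eq).2 ?_
      rw [mul_one]
      exact (mem_normalizer_iff_map_conj_eq).2 hmap
  haveI : Fintype (orbitRel.Quotient Z (G ⧸ N)) := Fintype.ofFinite _
  have hburn := sum_card_fixedBy_eq_card_orbits_mul_card_group Z (G ⧸ N)
  have hone : Fintype.card (fixedBy (G ⧸ N) (1 : Z)) = N.index := by
    rw [index_eq_card, Nat.card_eq_fintype_card]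
    exact Fintype.card_congr ⟨fun x => x.1, fun x => ⟨x, one_smul _ x⟩, fun _ => rfl, fun _ => rfl⟩
  have hothers : ∀ y ∈ Finset.univ.erase (1 : Z), Fintype.card (fixedBy (G ⧸ N) y) = 1 := by
    intro y hy
    rw [Fintype.card_eq_one_iff]
    have hb : y • ((1 : G) : G ⧸ N) = ((1 : G) : G ⧸ N) := by
      show (((y : G) * 1 : G) : G ⧸ N) = _
      rw [QuotientGroup.eq, mul_one, mul_one]
      exact inv_mem (le_normalizer y.2)
    exact ⟨⟨_, hb⟩, fun x => Subtype.ext (hfix y (Finset.ne_of_mem_erase hy) _ x.2)⟩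
  rw [← Finset.add_sum_erase _ _ (Finset.mem_univ (1 : Z)), hone, Finset.sum_congr rfl hothers,
    Finset.sum_const, Finset.card_erase_of_mem (Finset.mem_univ _), Finset.card_univ,
    ← Nat.card_eq_fintype_card, hcard, smul_eq_mul, mul_one] at hburn
  generalize Fintype.card (orbitRel.Quotient Z (G ⧸ N)) = norb at hburn
  have hcardG := C.card_G_eq
  rw [← N.card_mul_index, ← hNc, ← hmm, show C.q ^ 3 * (C.q + 1) * (C.q - 1) * (m * m') =
    m * (C.q ^ 3 * (C.q + 1) * (C.q - 1) * m') by ring, mul_assoc] at hcardG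
  have hi := Nat.eq_of_mul_eq_mul_left (by omega : 0 < m) hcardG
  have h27 := C.q_mem.2
  generalize C.q = Q at hi hcong h27
  have hiz := congrArg (Nat.cast (R := ℤ)) hi
  have hbz := congrArg (Nat.cast (R := ℤ)) hburn
  simp only [Nat.cast_mul, Nat.cast_pow, Nat.cast_add, Nat.cast_one, Nat.cast_sub (show 1 ≤ m by omega),
    Nat.cast_sub (show 1 ≤ Q by omega)] at hiz hbz
  obtain ⟨c, hc⟩ := hcong
  have hd : (m : ℤ) ∣ (w : ℤ) - 6 :=
    ⟨c - (w : ℤ) * ((norb : ℤ) - 1), by linear_combination -(w : ℤ) * hbz + hiz + hc⟩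
  rcases hw24 with e | e <;> rw [e] at hd <;> norm_num at hd <;>
    (have := Int.natCast_dvd.1 hd; norm_num at this; have := Nat.le_of_dvd (by norm_num) this; omega)

variable [Fintype G]
open scoped Classical

/-- A side without its whole factor is small. -/
theorem side_le (A : Finset (Subgroup G)) (hA : ∀ Z ∈ A, ∃ g, C.RealD g ∧ Z = centralizer ({g} : Set G))
    {m m' : ℕ} (hmm : m * m' = C.dd) (hcop : m.Coprime m') (hm7 : 7 ≤ m)
    (hcong : (m : ℤ) ∣ (C.q : ℤ) ^ 3 * ((C.q : ℤ) ^ 2 - 1) * (m' : ℤ) - 6)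
    (hdvd : ∀ Z ∈ A, Nat.card Z ∣ m) :
    6 * ∑ Z ∈ A, (Nat.card Z - 1) * Nat.card Z ≤ Nat.card G * (m - 1) ∧
      ((∀ Z ∈ A, Nat.card Z ≠ m) → 6 * ∑ Z ∈ A, (Nat.card Z - 1) * Nat.card Z < Nat.card G * (m - 1)) := by
  set S := A.image fun Z : Subgroup G => Nat.card Z with hS
  have hfib : ∀ k ∈ S, ∃ g, C.RealD g ∧ Nat.card (centralizer ({g} : Set G)) = k ∧
      (A.filter fun Z : Subgroup G => Nat.card Z = k).card ≤
        (normalizer ((centralizer ({g} : Set G) : Subgroup G) : Set G)).index := by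
    intro k hk
    obtain ⟨Z₀, hZ₀, rfl⟩ := Finset.mem_image.1 hk
    obtain ⟨g, hg, rfl⟩ := hA Z₀ hZ₀
    refine ⟨g, hg, rfl, ?_⟩
    set N := normalizer ((centralizer ({g} : Set G) : Subgroup G) : Set G)
    haveI := Fintype.ofFinite (G ⧸ N)
    let f : G ⧸ N → Subgroup G := fun x => centralizer ({x.out * g * x.out⁻¹} : Set G)
    have hsub : (A.filter fun Z : Subgroup G => Nat.card Z = Nat.card (centralizer ({g} : Set G))) ⊆
        Finset.univ.image f := by
      intro Z hZ
      obtain ⟨hZA, hZc⟩ := Finset.mem_filter.1 hZ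
      obtain ⟨g', hg', rfl⟩ := hA Z hZA
      obtain ⟨r, hr, hrd⟩ := Nat.exists_prime_and_dvd (C.one_lt_card_cent hg.1).ne'
      obtain ⟨k, hk⟩ := C.conj_of_common hg hg' hr hrd (hZc ▸ hrd)
      obtain ⟨z, hz⟩ := QuotientGroup.mk_out_eq_mul N k
      refine Finset.mem_image.2 ⟨(k : G ⧸ N), Finset.mem_univ _, ?_⟩
      show centralizer ({(k : G ⧸ N).out * g * (k : G ⧸ N).out⁻¹} : Set G) = _
      rw [hk, cent_conj, cent_conj, hz]
      have hzm := mem_normalizer_iff_map_conj_eq.1 z.2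
      conv_rhs => rw [← hzm]
      rw [map_map]
      congr 1
      ext x
      simp [mul_assoc]
    refine (Finset.card_le_card hsub).trans (Finset.card_image_le.trans ?_)
    rw [Finset.card_univ, ← Nat.card_eq_fintype_card, index_eq_card]
  have hterm : ∀ k ∈ S, (2 * ((A.filter fun Z : Subgroup G => Nat.card Z = k).card * ((k - 1) * k)) ≤
      Nat.card G * (k - 1)) ∧ (k = m → 6 * ((A.filter fun Z : Subgroup G => Nat.card Z = k).card * ((k - 1) * k)) ≤
      Nat.card G * (k - 1)) := by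
    intro k hk
    obtain ⟨g, hg, rfl, hle⟩ := hfib k hk
    set k := Nat.card (centralizer ({g} : Set G))
    set N := normalizer ((centralizer ({g} : Set G) : Subgroup G) : Set G)
    have base : ∀ c, c * k ≤ Nat.card N → c * ((A.filter fun Z : Subgroup G => Nat.card Z = k).card * ((k - 1) * k)) ≤
        Nat.card G * (k - 1) := fun c hc => by
      calc c * ((A.filter fun Z : Subgroup G => Nat.card Z = k).card * ((k - 1) * k)) ≤
            c * (N.index * ((k - 1) * k)) := Nat.mul_le_mul_left _ (Nat.mul_le_mul_right _ hle)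
        _ = (c * k) * N.index * (k - 1) := by ring
        _ ≤ Nat.card N * N.index * (k - 1) := Nat.mul_le_mul_right _ (Nat.mul_le_mul_right _ hc)
        _ = Nat.card G * (k - 1) := by rw [N.card_mul_index]
    exact ⟨base 2 (C.two_mul_le_norm hg).1,
      fun h => base 6 (h.symm ▸ C.six_mul_le_norm hg hmm hcop hm7 h hcong)⟩
  have hcp : ∀ k ∈ S, ∀ l ∈ S, k ≠ l → k.Coprime l := by
    intro k hk l hl hkl
    refine Nat.coprime_of_dvd fun r hr h1 h2 => hkl ?_
    obtain ⟨g, hg, rfl, -⟩ := hfib k hk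
    obtain ⟨g', hg', rfl, -⟩ := hfib l hl
    obtain ⟨c, hc⟩ := C.conj_of_common hg hg' hr h1 h2
    rw [hc, card_cent_conj]
  have hk2 : ∀ k ∈ S, 2 ≤ k := fun k hk => by
    obtain ⟨g, hg, rfl, -⟩ := hfib k hk
    exact C.one_lt_card_cent hg.1
  have hkd : ∀ k ∈ S, k ∣ m := fun k hk => by
    obtain ⟨Z, hZ, rfl⟩ := Finset.mem_image.1 hk
    exact hdvd Z hZ
  have hsum : ∑ Z ∈ A, (Nat.card Z - 1) * Nat.card Z =
      ∑ k ∈ S, (A.filter fun Z : Subgroup G => Nat.card Z = k).card * ((k - 1) * k) := by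
    rw [← Finset.sum_fiberwise_of_maps_to (fun Z hZ => Finset.mem_image_of_mem (fun Z : Subgroup G => Nat.card Z) hZ)
      (fun Z : Subgroup G => (Nat.card Z - 1) * Nat.card Z)]
    refine Finset.sum_congr rfl fun k _ => ?_
    rw [Finset.sum_congr rfl (fun Z hZ => by rw [(Finset.mem_filter.1 hZ).2]), Finset.sum_const, smul_eq_mul]
  have hp7 : ∀ r, r.Prime → r ∣ m → 7 ≤ r := fun r hr hd =>
    seven_le_prime hr (hd.trans ⟨m', hmm.symm⟩)
  have hG : 0 < Nat.card G := Nat.card_pos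
  have hlt : m ∉ S → 6 * ∑ Z ∈ A, (Nat.card Z - 1) * Nat.card Z < Nat.card G * (m - 1) := by
    intro hne
    have hS3 := three_mul_sum_lt (by omega) hp7 S hk2 hkd hcp hne
    calc 6 * ∑ Z ∈ A, (Nat.card Z - 1) * Nat.card Z =
          3 * ∑ k ∈ S, 2 * ((A.filter fun Z : Subgroup G => Nat.card Z = k).card * ((k - 1) * k)) := by
          rw [hsum, ← Finset.mul_sum]; ring
      _ ≤ 3 * ∑ k ∈ S, Nat.card G * (k - 1) :=
          Nat.mul_le_mul_left _ (Finset.sum_le_sum fun k hk => (hterm k hk).1)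
      _ = Nat.card G * (3 * ∑ k ∈ S, (k - 1)) := by rw [← Finset.mul_sum]; ring
      _ < Nat.card G * (m - 1) := Nat.mul_lt_mul_of_pos_left hS3 hG
  refine ⟨?_, fun hne => hlt fun hm => ?_⟩
  · by_cases hm : m ∈ S
    · have hS1 : S = {m} := by
        refine Finset.eq_singleton_iff_unique_mem.2 ⟨hm, fun k hk => ?_⟩
        by_contra hkm
        have h := Nat.eq_one_of_dvd_coprimes (hcp k hk m hm hkm) dvd_rfl (hkd k hk)
        have := hk2 k hk
        omega
      rw [hsum, hS1, Finset.sum_singleton]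
      exact (hterm m hm).2 rfl
    · exact (hlt hm).le
  · obtain ⟨Z, hZ, e⟩ := Finset.mem_image.1 hm
    exact hne Z hZ e

omit [Fintype G] in
/-- Both factors are the orders of centralizers of real elements. -/
theorem exists_full (hsep : C.Separated) :
    (∃ g, C.RealD g ∧ Nat.card (centralizer ({g} : Set G)) = facA n) ∧
      ∃ g, C.RealD g ∧ Nat.card (centralizer ({g} : Set G)) = facB n := by
  haveI := Fintype.ofFinite G
  have hn := C.S.one_le
  set D := Finset.univ.filter C.RealD with hD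
  set A := D.image fun g => (centralizer ({g} : Set G) : Subgroup G) with hA
  have hAm : ∀ Z ∈ A, ∃ g, C.RealD g ∧ Z = centralizer ({g} : Set G) := fun Z hZ => by
    obtain ⟨g, hg, rfl⟩ := Finset.mem_image.1 hZ
    exact ⟨g, (Finset.mem_filter.1 hg).2, rfl⟩
  have hsum : ∑ g ∈ D, Nat.card (centralizer ({g} : Set G)) ≤ ∑ Z ∈ A, (Nat.card Z - 1) * Nat.card Z := by
    rw [← Finset.sum_fiberwise_of_maps_to (fun g hg => Finset.mem_image_of_mem (fun g : G => (centralizer ({g} : Set G) : Subgroup G)) hg)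
      (fun g : G => Nat.card (centralizer ({g} : Set G)))]
    refine Finset.sum_le_sum fun Z _ => ?_
    rw [Finset.sum_congr rfl (fun g hg => by rw [(Finset.mem_filter.1 hg).2]), Finset.sum_const, smul_eq_mul]
    refine Nat.mul_le_mul_right _ ?_
    have hsub : (D.filter fun g => centralizer ({g} : Set G) = Z) ⊆
        (Finset.univ.filter fun x => x ∈ Z).erase 1 := by
      intro g hg
      obtain ⟨hgD, rfl⟩ := Finset.mem_filter.1 hg
      refine Finset.mem_erase.2 ⟨?_, Finset.mem_filter.2 ⟨Finset.mem_univ _,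
        mem_centralizer_singleton_iff.2 rfl⟩⟩
      rintro rfl
      obtain ⟨⟨r, hr, -, hro⟩, -⟩ := (Finset.mem_filter.1 hgD).2
      rw [orderOf_one] at hro
      exact hr.ne_one (Nat.dvd_one.1 hro)
    refine (Finset.card_le_card hsub).trans (le_of_eq ?_)
    rw [Finset.card_erase_of_mem (Finset.mem_filter.2 ⟨Finset.mem_univ _, one_mem Z⟩),
      Nat.card_eq_fintype_card, Fintype.card_subtype]
  have hside : ∀ Z ∈ A, Nat.card Z ∣ facA n ∨ Nat.card Z ∣ facB n := by
    intro Z hZ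
    obtain ⟨g, hg, rfl⟩ := hAm Z hZ
    have hd := C.card_cent_dvd hg.1
    rw [C.dd_eq] at hd
    by_cases hb : (Nat.card (centralizer ({g} : Set G))).Coprime (facB n)
    · exact Or.inl (hb.dvd_of_dvd_mul_right hd)
    refine Or.inr (Nat.Coprime.dvd_of_dvd_mul_left ?_ hd)
    obtain ⟨s, hs, hs1, hs2⟩ := Nat.Prime.not_coprime_iff_dvd.1 hb
    refine Nat.coprime_of_dvd fun r hr hr1 hr2 => ?_
    haveI : Fact r.Prime := ⟨hr⟩
    haveI : Fact s.Prime := ⟨hs⟩
    obtain ⟨x, hx⟩ := exists_prime_orderOf_dvd_card' r hr1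
    obtain ⟨y, hy⟩ := exists_prime_orderOf_dvd_card' s hs1
    have hrs : r ≠ s := fun e => by
      have := Nat.eq_one_of_dvd_coprimes (fac_coprime hn) hr2 (e ▸ hs2)
      exact hr.ne_one this
    have ho : orderOf ((x : G) * y) = r * s := by
      rw [(show Commute (x : G) y from C.cent_comm hg _ x.2 _ y.2).orderOf_mul_eq_mul_orderOf_of_coprime
        (by rw [orderOf_coe, orderOf_coe, hx, hy]; exact (Nat.coprime_primes hr hs).2 hrs),
        orderOf_coe, orderOf_coe, hx, hy]
    refine hsep ((x : G) * y) ?_ r s hr hs hr2 hs2 (ho ▸ dvd_mul_right r s) (ho ▸ dvd_mul_left s r)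
    rw [ho, Nat.prime_two.dvd_mul]
    rintro (h | h)
    · have := (seven_le_prime hr (n := n) (by rw [← fac_mul hn]; exact hr2.mul_right _))
      have := (Nat.prime_dvd_prime_iff_eq Nat.prime_two hr).1 h
      omega
    · have := (seven_le_prime hs (n := n) (by rw [← fac_mul hn]; exact hs2.mul_left _))
      have := (Nat.prime_dvd_prime_iff_eq Nat.prime_two hs).1 h
      omega
  set A₁ := A.filter fun Z : Subgroup G => Nat.card Z ∣ facA n with hA₁
  set A₂ := A.filter fun Z : Subgroup G => ¬ Nat.card Z ∣ facA n with hA₂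
  have hcb := C.dd_eq
  have hab7 : 7 ≤ facA n ∧ 7 ≤ facB n := by
    have h := (facA_cast hn).2
    refine ⟨h, h.trans ?_⟩
    unfold facA facB
    generalize 3 ^ (2 * n + 1) = u
    generalize 3 ^ (n + 1) = v
    omega
  have s1 := C.side_le A₁ (fun Z hZ => hAm Z (Finset.mem_filter.1 hZ).1) hcb.symm (fac_coprime hn) hab7.1
    (fac_congr hn).1 (fun Z hZ => (Finset.mem_filter.1 hZ).2)
  have s2 := C.side_le A₂ (fun Z hZ => hAm Z (Finset.mem_filter.1 hZ).1) (by rw [mul_comm]; exact hcb.symm)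
    (fac_coprime hn).symm hab7.2 (fac_congr hn).2
    (fun Z hZ => (hside Z (Finset.mem_filter.1 hZ).1).resolve_left (Finset.mem_filter.1 hZ).2)
  have hsplit : ∑ Z ∈ A, (Nat.card Z - 1) * Nat.card Z =
      ∑ Z ∈ A₁, (Nat.card Z - 1) * Nat.card Z + ∑ Z ∈ A₂, (Nat.card Z - 1) * Nat.card Z :=
    (Finset.sum_filter_add_sum_filter_not _ _ _).symm
  have htot := C.card_G_le_sum
  rw [← hD] at htot
  have hq2 : Nat.card G * (facA n - 1) + Nat.card G * (facB n - 1) = 2 * (C.q * Nat.card G) := by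
    rw [← mul_add, fac_sum hn]; ring
  refine ⟨?_, ?_⟩
  · by_contra h
    push Not at h
    have := s1.2 fun Z hZ => by
      obtain ⟨g, hg, rfl⟩ := hAm Z (Finset.mem_filter.1 hZ).1
      exact h g hg
    have := s2.1
    omega
  · by_contra h
    push Not at h
    have := s2.2 fun Z hZ => by
      obtain ⟨g, hg, rfl⟩ := hAm Z (Finset.mem_filter.1 hZ).1
      exact h g hg
    have := s1.1
    omega

omit [Fintype G] in
/-- Every prime of `q² - q + 1` is the order of an element inverted by an involution. -/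
theorem exists_real (hsep : C.Separated) {r : ℕ} (hr : r.Prime) (hd : r ∣ C.dd) :
    ∃ x a : G, orderOf x = r ∧ IsInvol a ∧ a * x * a⁻¹ = x⁻¹ := by
  haveI : Fact r.Prime := ⟨hr⟩
  obtain ⟨⟨g, hg, hgA⟩, g', hg', hgB⟩ := C.exists_full hsep
  rw [C.dd_eq, hr.dvd_mul] at hd
  have key : ∀ h : G, C.RealD h → r ∣ Nat.card (centralizer ({h} : Set G)) →
      ∃ x a : G, orderOf x = r ∧ IsInvol a ∧ a * x * a⁻¹ = x⁻¹ := by
    rintro h ⟨hD, a, ha, hag⟩ hrd
    obtain ⟨x, hx⟩ := exists_prime_orderOf_dvd_card' r hrd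
    exact ⟨x, a, by rw [orderOf_coe, hx], ha, C.inverts_cent hD ha hag _ x.2⟩
  exact hd.elim (fun h => key g hg (hgA ▸ h)) fun h => key g' hg' (hgB ▸ h)

end Cfsg.Lib.PiOdd.Ctx
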