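import Cfsg.Agent.Lib.PiOdd.Kinds

/-!
# Counting the products of two involutions

For a fixed involution `t` the products `t u` that fix a point, or lie in a torus of order `q + 1`,
are few enough to leave `(q⁴ - q²)/3` with order divisible by a prime of `q² - q + 1`.
-/

set_option autoImplicit false
set_option linter.unusedSectionVars false
set_option linter.style.haveILetI false

namespace Cfsg.Lib.PiOdd.Ctx

open Subgroup Cfsg Cfsg.Lib.ReeType MulAction

universe u v

variable {G : Type u} {L : Type v} [Group G] [Group L] [Finite G] {n T : ℕ} (C : Ctx G L n T)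

/-- Inverted by an involution, of order with a prime of `q² - q + 1`. -/
def RealD (g : G) : Prop := C.DType g ∧ ∃ a : G, IsInvol a ∧ a * g * a⁻¹ = g⁻¹

/-- The involutions that do not commute with `t`. -/
def Far (u : G) : Prop := IsInvol u ∧ u * C.S.t ≠ C.S.t * u

theorem sq_ne_of_far {u : G} (hu : C.Far u) : C.S.t * u * (C.S.t * u) ≠ 1 := fun h => hu.2 (by
  have h1 := eq_inv_of_mul_eq_one_right h
  rw [mul_inv_rev, hu.1.inv_eq, C.S.t_inv] at h1
  exact h1.symm)

theorem invert_product {a b : G} (ha : IsInvol a) (hb : IsInvol b) :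
    a * (a * b) * a⁻¹ = (a * b)⁻¹ := by
  rw [mul_inv_rev, ha.inv_eq, hb.inv_eq, ← mul_assoc a a b, ha.2, one_mul]

/-- The involutions inverting an element lie in one coset of its centralizer. -/
theorem card_inverters_le (g : G) :
    Nat.card {a : G // IsInvol a ∧ a * g * a⁻¹ = g⁻¹} ≤ Nat.card (centralizer ({g} : Set G)) := by
  rcases isEmpty_or_nonempty {a : G // IsInvol a ∧ a * g * a⁻¹ = g⁻¹} with h | ⟨⟨a₀⟩⟩
  · rw [Nat.card_of_isEmpty]; exact Nat.zero_le _
  refine Nat.card_le_card_of_injective (fun a => ⟨(a₀ : G) * a, ?_⟩) fun a b h => ?_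
  · rw [mem_centralizer_singleton_iff]
    have h1 := a.2.2
    have h2 : (a₀ : G) * g⁻¹ * (a₀ : G)⁻¹ = g := by rw [← conj_inv, a₀.2.2, inv_inv]
    calc (a₀ : G) * a * g = a₀ * ((a : G) * g * (a : G)⁻¹) * a := by group
      _ = a₀ * g⁻¹ * (a₀ : G)⁻¹ * (a₀ * a) := by rw [h1]; group
      _ = g * (a₀ * a) := by rw [h2]
  · exact Subtype.ext (mul_left_cancel (congrArg Subtype.val h))

variable [IsSimpleGroup G]

theorem ι_out : C.S.φ C.S.D.i ∉ C.S.K := fun h => by
  have h1 := C.S.ι_facts.2.2.2 _ C.S.φy_mem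
  rw [mul_inv_eq_iff_eq_mul.mpr (C.S.K_comm h (C.S.Tsub_le C.S.φy_mem))] at h1
  exact C.S.φy_ne (C.S.Tsub_sq_eq_one C.S.φy_mem (mul_eq_one_iff_eq_inv.mpr h1))

theorem K_card : Nat.card C.S.K = C.q + 1 := by rw [C.S.card_K]; exact C.S.hT

/-- The normalizer of the torus of order `q + 1` has index six over it. -/
theorem six_mul_le_normalizer : 6 * (C.q + 1) ≤ Nat.card C.S.Nm := by
  obtain ⟨ρ, hρ0, hρ1, hρ2, hρ3⟩ := C.S.exists_rho_four C.hna
  obtain ⟨h1, h2, h3, h4, h5, h6⟩ := C.S.tz_facts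
  obtain ⟨hii, hit, hiz, hiT⟩ := C.S.ι_facts
  have hρN : ρ ∈ C.S.Nm := by
    refine C.S.mem_Nm_of_map fun x hx => ?_
    obtain ⟨v, hv, τ, hτ, rfl⟩ := C.S.exists_mul_of_mem_K hx
    obtain ⟨σ, hσ, rfl⟩ := C.S.exists_sq_of_mem_Tsub hτ
    rw [conj_mul', conj_mul']
    refine mul_mem ?_ (C.S.Tsub_le (C.S.sq_mem_Tsub_of_cent ?_ ?_))
    · rcases hv with h | h | h | h <;> rw [h]
      · simp
      · rw [hρ1]; exact C.S.φz_mem_K
      · rw [hρ2]; exact C.S.tz_inV.mem_K
      · rw [hρ3]; exact C.S.t_mem_K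
    · nth_rewrite 1 [← hρ3]; nth_rewrite 2 [← hρ3]
      rw [← conj_mul', ← conj_mul', C.S.K_comm (C.S.Tsub_le hσ) C.S.tz_inV.mem_K]
    · rw [← hρ1]
      rw [← conj_mul', ← conj_mul', C.S.K_comm (C.S.Tsub_le hσ) C.S.t_mem_K]
  have hιN : C.S.φ C.S.D.i ∈ C.S.Nm := by
    refine C.S.mem_Nm_of_map fun x hx => ?_
    obtain ⟨v, hv, τ, hτ, rfl⟩ := C.S.exists_mul_of_mem_K hx
    rw [conj_mul', hiT τ hτ]
    refine mul_mem ?_ (C.S.Tsub_le (inv_mem hτ))
    rcases hv with h | h | h | h <;> rw [h]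
    · simp
    · rw [hit]; exact C.S.t_mem_K
    · rw [hiz]; exact C.S.φz_mem_K
    · rw [conj_mul', hit, hiz]; exact C.S.tz_inV.mem_K
  have hKN : C.S.K ≤ C.S.Nm := le_normalizer
  have hconjt : ∀ (p : Fin 3 × Bool) (k : C.S.K), C.S.rep ρ p * k * C.S.t * (C.S.rep ρ p * k)⁻¹ =
      ρ ^ (p.1 : ℕ) * C.S.t * (ρ ^ (p.1 : ℕ))⁻¹ := by
    intro p k
    have hk : (k : G) * C.S.t * (k : G)⁻¹ = C.S.t := by
      rw [C.S.K_comm k.2 C.S.t_mem_K, mul_inv_cancel_right]
    have hb : (if p.2 then C.S.φ C.S.D.i else 1) * C.S.t * (if p.2 then C.S.φ C.S.D.i else 1)⁻¹ =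
        C.S.t := by
      cases p.2
      · simp
      · simpa using hit
    simp only [Setup.rep]
    calc ρ ^ (p.1 : ℕ) * (if p.2 then C.S.φ C.S.D.i else 1) * k * C.S.t *
          (ρ ^ (p.1 : ℕ) * (if p.2 then C.S.φ C.S.D.i else 1) * k)⁻¹ =
        ρ ^ (p.1 : ℕ) * ((if p.2 then C.S.φ C.S.D.i else 1) * ((k : G) * C.S.t * (k : G)⁻¹) *
          (if p.2 then C.S.φ C.S.D.i else 1)⁻¹) * (ρ ^ (p.1 : ℕ))⁻¹ := by group
      _ = _ := by rw [hk, hb]
  let f : (Fin 3 × Bool) × C.S.K → C.S.Nm := fun x =>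
    ⟨C.S.rep ρ x.1 * x.2, mul_mem (mul_mem (pow_mem hρN _)
      (by split <;> [exact hιN; exact one_mem _])) (hKN x.2.2)⟩
  have hf : Function.Injective f := by
    rintro ⟨p, k⟩ ⟨p', k'⟩ h
    have h' : C.S.rep ρ p * k = C.S.rep ρ p' * k' := congrArg Subtype.val h
    have e := (hconjt p k).symm.trans ((congrArg (fun x => x * C.S.t * x⁻¹) h').trans (hconjt p' k'))
    have e2 : ρ ^ 2 * C.S.t * (ρ ^ 2)⁻¹ = C.S.t * C.S.φ C.S.D.z := by
      rw [sq, show ρ * ρ * C.S.t * (ρ * ρ)⁻¹ = ρ * (ρ * C.S.t * ρ⁻¹) * ρ⁻¹ by group, hρ1, hρ2]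
    have hp1 : p.1 = p'.1 := by
      obtain ⟨⟨a, ha⟩, b⟩ := p
      obtain ⟨⟨a', ha'⟩, b'⟩ := p'
      simp only at e
      interval_cases a <;> interval_cases a' <;>
        simp only [pow_zero, pow_one, one_mul, inv_one, mul_one, hρ1, e2] at e <;>
        first
          | rfl
          | exact absurd e h4 | exact absurd e.symm h4 | exact absurd e h5 | exact absurd e.symm h5
          | exact absurd e h6 | exact absurd e.symm h6
    obtain ⟨a, b⟩ := p
    obtain ⟨a', b'⟩ := p'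
    simp only at hp1
    subst hp1
    simp only [Setup.rep, mul_assoc, mul_left_cancel_iff] at h'
    cases b <;> cases b' <;>
      simp only [Bool.false_eq_true, if_false, if_true, one_mul] at h'
    · rw [Subtype.ext h']
    · refine absurd ?_ C.ι_out
      rw [show C.S.φ C.S.D.i = (k : G) * (k' : G)⁻¹ by rw [h']; group]
      exact mul_mem k.2 (inv_mem k'.2)
    · refine absurd ?_ C.ι_out
      rw [show C.S.φ C.S.D.i = (k' : G) * (k : G)⁻¹ by rw [← h']; group]
      exact mul_mem k'.2 (inv_mem k.2)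
    · rw [Subtype.ext (mul_left_cancel h')]
  have h := Nat.card_le_card_of_injective f hf
  rw [Nat.card_prod, Nat.card_prod, Nat.card_eq_fintype_card, Nat.card_eq_fintype_card, C.K_card] at h
  simpa using h

theorem cent_K_le {g : G} (hg : ∃ k : G, k⁻¹ * g * k ∈ C.S.K) (hg2 : g * g ≠ 1) :
    Nat.card (centralizer ({g} : Set G)) ≤ C.q + 1 := by
  obtain ⟨k, hk⟩ := hg
  obtain ⟨x, hx⟩ : ∃ x, x = k⁻¹ * g * k := ⟨_, rfl⟩
  rw [← hx] at hk
  have hx2 : x * x ≠ 1 := fun h => hg2 (by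
    rw [hx, show k⁻¹ * g * k * (k⁻¹ * g * k) = k⁻¹ * (g * g) * (k⁻¹)⁻¹ by group] at h
    exact conj_eq_one_iff.1 h)
  have hT := C.S.sq_mem_Tsub hk
  obtain ⟨r, hr, hrd⟩ := Nat.exists_prime_and_dvd (n := orderOf (x * x))
    fun h => hx2 (orderOf_eq_one_iff.1 h)
  have hrT : r ∣ T := hrd.trans (C.S.card_Tsub ▸ Subgroup.orderOf_dvd_natCard _ hT)
  rw [← C.K_card]
  refine Nat.card_le_card_of_injective (fun y => (⟨k⁻¹ * (y : G) * k, C.cent_torus_elem hr hrT
    (pow_mem hT _) (orderOf_pow_orderOf_div (orderOf_pos _).ne' hrd) ?_⟩ : C.S.K)) fun a b h => ?_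
  · have hy := mem_centralizer_singleton_iff.1 y.2
    refine ((Commute.mul_right ?_ ?_).pow_right _).eq <;>
      (show k⁻¹ * (y : G) * k * x = x * (k⁻¹ * (y : G) * k)
       rw [hx, show k⁻¹ * (y : G) * k * (k⁻¹ * g * k) = k⁻¹ * ((y : G) * g) * k by group, hy]
       group)
  · exact Subtype.ext (mul_left_cancel (mul_right_cancel (congrArg Subtype.val h)))

variable [Fintype G]
open scoped Classical

noncomputable def Ifin (_C : Ctx G L n T) : Finset G := Finset.univ.filter IsInvol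

theorem card_Ifin : C.Ifin.card = numInvol G := by
  rw [Ifin, numInvol, Nat.card_eq_fintype_card, Fintype.card_subtype]

/-- A conjugation invariant set of pairs of involutions has the same number over each involution. -/
theorem pairs_eq (Pr : G → G → Prop) (hPr : ∀ g a b, Pr a b → Pr (g * a * g⁻¹) (g * b * g⁻¹)) :
    C.Ifin.card * (C.Ifin.filter (Pr C.S.t)).card =
      ((C.Ifin ×ˢ C.Ifin).filter fun p => Pr p.1 p.2).card := by
  have hrow : ∀ a ∈ C.Ifin, (C.Ifin.filter (Pr a)).card = (C.Ifin.filter (Pr C.S.t)).card := by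
    intro a ha
    obtain ⟨ha1, ha2⟩ := (Finset.mem_filter.1 ha).2
    obtain ⟨g, rfl⟩ := C.S.exists_conj_t C.hna ha2 ha1
    refine Finset.card_bij' (fun b _ => g⁻¹ * b * g) (fun b _ => g * b * g⁻¹) (fun b hb => ?_)
      (fun b hb => ?_) (fun b _ => by group) (fun b _ => by group)
    · simp only [Ifin, Finset.mem_filter, Finset.mem_univ, true_and] at hb ⊢
      have h1 := hb.1.conj g⁻¹
      have h2 := hPr g⁻¹ _ _ hb.2
      rw [inv_inv] at h1 h2
      rw [show g⁻¹ * (g * C.S.t * g⁻¹) * g = C.S.t by group] at h2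
      exact ⟨h1, h2⟩
    · simp only [Ifin, Finset.mem_filter, Finset.mem_univ, true_and] at hb ⊢
      exact ⟨hb.1.conj g, hPr g _ _ hb.2⟩
  calc C.Ifin.card * (C.Ifin.filter (Pr C.S.t)).card = ∑ a ∈ C.Ifin, (C.Ifin.filter (Pr a)).card := by
        rw [Finset.sum_congr rfl hrow, Finset.sum_const, smul_eq_mul]
    _ = ((C.Ifin ×ˢ C.Ifin).filter fun p => Pr p.1 p.2).card := by
        simp only [Finset.card_filter, Finset.sum_product]

/-- Pairs with product in a set are bounded by the centralizers of the products. -/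
theorem pairs_le (Pr : G → G → Prop) (D : Finset G)
    (hD : ∀ a b, IsInvol a → IsInvol b → Pr a b → a * b ∈ D) :
    ((C.Ifin ×ˢ C.Ifin).filter fun p => Pr p.1 p.2).card ≤
      ∑ g ∈ D, Nat.card (centralizer ({g} : Set G)) := by
  have h : ((C.Ifin ×ˢ C.Ifin).filter fun p => Pr p.1 p.2).card ≤
      (D.sigma fun g => C.Ifin.filter fun a => a * g * a⁻¹ = g⁻¹).card := by
    refine Finset.card_le_card_of_injOn (fun p => ⟨p.1 * p.2, p.1⟩) (fun p hp => ?_) fun p _ p' _ e => ?_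
    · simp only [Finset.coe_filter, Finset.mem_product, Ifin, Finset.mem_filter, Finset.mem_univ,
        true_and, Set.mem_setOf_eq] at hp
      simp only [Finset.coe_sigma, Set.mem_sigma_iff, Finset.mem_coe, Finset.mem_filter, Ifin,
        Finset.mem_univ, true_and]
      exact ⟨hD _ _ hp.1.1 hp.1.2 hp.2, hp.1.1, invert_product hp.1.1 hp.1.2⟩
    · simp only [Sigma.mk.injEq, heq_eq_eq] at e
      exact Prod.ext e.2 (mul_left_cancel (a := p.1) (by rw [e.1, e.2]))
  refine h.trans (le_of_eq_of_le (Finset.card_sigma _ _) (Finset.sum_le_sum fun g _ => ?_))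
  refine le_trans (le_of_eq ?_) (card_inverters_le g)
  rw [Nat.card_eq_fintype_card, Fintype.card_subtype, Ifin, Finset.filter_filter]

/-- The products in the tori of order `q + 1`. -/
theorem six_mul_card_torus_le :
    6 * (C.Ifin.filter fun u => C.Far u ∧ ∃ k : G, k⁻¹ * (C.S.t * u) * k ∈ C.S.K).card ≤
      C.q * (C.q * C.q - 1) * (C.q - 3) := by
  set Pr : G → G → Prop := fun a b => a * b * (a * b) ≠ 1 ∧ ∃ k : G, k⁻¹ * (a * b) * k ∈ C.S.K with hP
  set D : Finset G := Finset.univ.filter fun g => g * g ≠ 1 ∧ ∃ k : G, k⁻¹ * g * k ∈ C.S.K with hDdef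
  have hPr : ∀ g a b, Pr a b → Pr (g * a * g⁻¹) (g * b * g⁻¹) := by
    rintro g a b ⟨h1, k, hk⟩
    refine ⟨fun h => h1 ?_, g * k, ?_⟩
    · rw [← conj_mul' g a b, ← conj_mul'] at h
      exact conj_eq_one_iff.1 h
    · rwa [show (g * k)⁻¹ * (g * a * g⁻¹ * (g * b * g⁻¹)) * (g * k) = k⁻¹ * (a * b) * k by group]
  have h1 : (C.Ifin.filter fun u => C.Far u ∧ ∃ k : G, k⁻¹ * (C.S.t * u) * k ∈ C.S.K).card ≤
      (C.Ifin.filter (Pr C.S.t)).card :=
    Finset.card_le_card fun u hu => by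
      simp only [Finset.mem_filter] at hu ⊢
      exact ⟨hu.1, C.sq_ne_of_far hu.2.1, hu.2.2⟩
  have h2 : C.Ifin.card * (C.Ifin.filter (Pr C.S.t)).card ≤ D.card * (C.q + 1) := by
    refine (le_of_eq (by convert C.pairs_eq Pr hPr)).trans ?_
    refine (C.pairs_le Pr D fun a b _ _ h => Finset.mem_filter.2 ⟨Finset.mem_univ _, h⟩).trans ?_
    rw [Finset.card_eq_sum_ones D, Finset.sum_mul]
    refine Finset.sum_le_sum fun g hg => ?_
    rw [one_mul]
    exact C.cent_K_le (Finset.mem_filter.1 hg).2.2 (Finset.mem_filter.1 hg).2.1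
  -- the number of such elements
  have h3 : D.card ≤ C.S.Nm.index * (C.q + 1 - 4) := by
    set W : Finset G := Finset.univ.filter fun x => x ∈ C.S.K ∧ ¬ C.S.InV x with hW
    haveI := Fintype.ofFinite (G ⧸ C.S.Nm)
    have hsub : D ⊆ (Finset.univ ×ˢ W).image fun x : (G ⧸ C.S.Nm) × G => x.1.out * x.2 * x.1.out⁻¹ := by
      intro g hg
      simp only [hDdef, Finset.mem_filter, Finset.mem_univ, true_and] at hg
      obtain ⟨hg2, k, hk⟩ := hg
      obtain ⟨z, hz⟩ := QuotientGroup.mk_out_eq_mul C.S.Nm k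
      rw [Finset.mem_image]
      refine ⟨((k : G ⧸ C.S.Nm), (z : G)⁻¹ * (k⁻¹ * g * k) * z), Finset.mem_product.2
        ⟨Finset.mem_univ _, ?_⟩, ?_⟩
      · simp only [hW, Finset.mem_filter, Finset.mem_univ, true_and]
        have hmem : (z : G)⁻¹ * (k⁻¹ * g * k) * z ∈ C.S.K := by
          simpa using (mem_normalizer_iff.1 (inv_mem z.2) _).1 hk
        refine ⟨hmem, fun h => hg2 ?_⟩
        have h' := h.sq
        rw [show (z : G)⁻¹ * (k⁻¹ * g * k) * z * ((z : G)⁻¹ * (k⁻¹ * g * k) * z) =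
          ((z : G)⁻¹ * k⁻¹) * (g * g) * ((z : G)⁻¹ * k⁻¹)⁻¹ by group] at h'
        exact conj_eq_one_iff.1 h'
      · show (k : G ⧸ C.S.Nm).out * _ * (k : G ⧸ C.S.Nm).out⁻¹ = g
        rw [hz]; group
    have hWc : W.card = C.q + 1 - 4 := by
      have hK : (Finset.univ.filter fun x => x ∈ C.S.K).card = C.q + 1 := by
        rw [← C.K_card, Nat.card_eq_fintype_card, Fintype.card_subtype]
      have hV : (Finset.univ.filter fun x => C.S.InV x).card = 4 := by
        rw [← C.S.card_Vsub, Nat.card_eq_fintype_card, Fintype.card_subtype]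
        simp only [C.S.mem_Vsub]
      have he : W = (Finset.univ.filter fun x => x ∈ C.S.K) \ (Finset.univ.filter fun x => C.S.InV x) := by
        ext x; simp [hW]
      rw [he, Finset.card_sdiff_of_subset (fun x hx => by
        simp only [Finset.mem_filter, Finset.mem_univ, true_and] at hx ⊢
        exact hx.mem_K), hK, hV]
    refine (Finset.card_le_card hsub).trans (Finset.card_image_le.trans ?_)
    rw [Finset.card_product, Finset.card_univ, ← Nat.card_eq_fintype_card, ← index_eq_card, hWc]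
  have hN := C.S.N_mul C.hna
  change numInvol G * (C.q * (C.q * C.q - 1)) = Nat.card G at hN
  rw [← C.card_Ifin] at hN
  have hidx := C.S.Nm.card_mul_index
  have h6 := C.six_mul_le_normalizer
  have hI : 0 < C.Ifin.card := by
    rw [Finset.card_pos]; exact ⟨C.S.t, Finset.mem_filter.2 ⟨Finset.mem_univ _, C.S.t_invol⟩⟩
  refine Nat.le_of_mul_le_mul_left ?_ hI
  calc C.Ifin.card * (6 * (C.Ifin.filter fun u => C.Far u ∧ ∃ k : G, k⁻¹ * (C.S.t * u) * k ∈ C.S.K).card)
      ≤ 6 * (C.Ifin.card * (C.Ifin.filter (Pr C.S.t)).card) := by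
        rw [Nat.mul_left_comm]
        exact Nat.mul_le_mul_left _ (Nat.mul_le_mul_left _ h1)
    _ ≤ 6 * (C.S.Nm.index * (C.q + 1 - 4) * (C.q + 1)) :=
        Nat.mul_le_mul_left _ (h2.trans (Nat.mul_le_mul_right _ h3))
    _ = (6 * (C.q + 1)) * C.S.Nm.index * (C.q - 3) := by
        rw [show C.q + 1 - 4 = C.q - 3 from rfl]; ring
    _ ≤ Nat.card C.S.Nm * C.S.Nm.index * (C.q - 3) :=
        Nat.mul_le_mul_right _ (Nat.mul_le_mul_right _ h6)
    _ = C.Ifin.card * (C.q * (C.q * C.q - 1) * (C.q - 3)) := by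
        rw [hidx, ← hN]; ring

/-- The involutions mapping `α` as `t` does. -/
theorem swap_card_le {α : G ⧸ C.H} (hα : C.S.t • α ≠ α) :
    (C.Ifin.filter fun u => C.Far u ∧ u • α = C.S.t • α).card ≤ C.q - 3 := by
  obtain ⟨h, h1, h2⟩ := C.exists_map C.o'_ne.symm hα.symm
  set M := C.Ifin.filter fun u => u • α = C.S.t • α with hM
  have hw2 : C.S.φ C.S.D.w * C.S.φ C.S.D.w = 1 := by rw [← map_mul, C.S.D.w_sq, map_one]
  have hswap : ∀ u ∈ M, (h⁻¹ * u * h) • C.o = C.o' ∧ (h⁻¹ * u * h) • C.o' = C.o := by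
    intro u hu
    simp only [hM, Ifin, Finset.mem_filter, Finset.mem_univ, true_and] at hu
    refine ⟨?_, ?_⟩
    · rw [mul_smul, mul_smul, h1, hu.2, ← h2, inv_smul_smul]
    · rw [mul_smul, mul_smul, h2, ← hu.2, smul_smul u, hu.1.2, one_smul, ← h1, inv_smul_smul]
  have hMc : M.card ≤ C.q - 1 := by
    rw [← C.card_A, Nat.card_eq_fintype_card, Fintype.card_subtype]
    refine Finset.card_le_card_of_injOn (fun u => C.S.φ C.S.D.w * (h⁻¹ * u * h)) (fun u hu => ?_)
      fun u _ u' _ e => ?_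
    · obtain ⟨s1, s2⟩ := hswap u hu
      simp only [Finset.coe_filter, Finset.mem_univ, true_and, Set.mem_setOf_eq]
      rw [C.mem_A_iff, mul_smul, s1, mul_smul (C.S.φ C.S.D.w), s2]
      exact ⟨by rw [Ctx.o', smul_smul, hw2, one_smul], rfl⟩
    · exact mul_left_cancel (mul_right_cancel (mul_left_cancel e))
  -- two of them commute with `t`
  have htM : C.S.t ∈ M := by
    simp only [hM, Ifin, Finset.mem_filter, Finset.mem_univ, true_and, and_true]
    exact C.S.t_invol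
  obtain ⟨j, hj⟩ : ∃ j, j = h * C.S.t * h⁻¹ := ⟨_, rfl⟩
  have hjI : IsInvol j := hj ▸ (C.S.t_invol).conj h
  have hjfix : j • α = α := hj ▸ h1 ▸ C.orbit_fix (C.A_fix C.t_mem_A).1
  have hjc : j * C.S.t = C.S.t * j := by
    obtain ⟨s1, s2⟩ := hswap C.S.t htM
    have hinv := C.swap_inverts s1 s2 C.t_mem_A
    rw [C.S.t_inv] at hinv
    have e := congrArg (fun x => h * x * h⁻¹) (mul_inv_eq_iff_eq_mul.1 hinv)
    rw [hj]
    calc h * C.S.t * h⁻¹ * C.S.t = h * (C.S.t * (h⁻¹ * C.S.t * h)) * h⁻¹ := by group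
      _ = h * (h⁻¹ * C.S.t * h * C.S.t) * h⁻¹ := e.symm
      _ = C.S.t * (h * C.S.t * h⁻¹) := by group
  have hjM : C.S.t * j ∈ M := by
    simp only [hM, Ifin, Finset.mem_filter, Finset.mem_univ, true_and]
    refine ⟨⟨fun e => hα ?_, ?_⟩, by rw [mul_smul, hjfix]⟩
    · rw [eq_inv_of_mul_eq_one_left e, hjI.inv_eq, hjfix]
    · rw [mul_assoc, ← mul_assoc j, hjc, mul_assoc C.S.t j, hjI.2, mul_one, C.S.t_sq]
  have hne : C.S.t ≠ C.S.t * j := fun e => hjI.1 (mul_left_cancel (e.symm.trans (mul_one _).symm))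
  have hsub : (C.Ifin.filter fun u => C.Far u ∧ u • α = C.S.t • α) ⊆ (M.erase C.S.t).erase (C.S.t * j) := by
    intro u hu
    simp only [Finset.mem_filter] at hu
    refine Finset.mem_erase.2 ⟨?_, Finset.mem_erase.2 ⟨?_, Finset.mem_filter.2 ⟨hu.1, hu.2.2⟩⟩⟩
    · rintro rfl
      exact hu.2.1.2 (by rw [mul_assoc, hjc, ← mul_assoc])
    · rintro rfl
      exact hu.2.1.2 rfl
  have h' := Finset.card_le_card hsub
  rw [Finset.card_erase_of_mem (Finset.mem_erase.2 ⟨hne.symm, hjM⟩), Finset.card_erase_of_mem htM] at h'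
  omega

/-- The involutions fixing a fixed point of `t`. -/
theorem fixed_card_le (α : G ⧸ C.H) (hα : C.S.t • α = α) :
    (C.Ifin.filter fun u => C.Far u ∧ u • α = α).card ≤ C.q ^ 2 - 1 := by
  have htM : C.S.t ∈ C.Ifin.filter fun u => u • α = α :=
    Finset.mem_filter.2 ⟨Finset.mem_filter.2 ⟨Finset.mem_univ _, C.S.t_invol⟩, hα⟩
  obtain ⟨g, rfl⟩ := C.exists_to α
  have hM : (C.Ifin.filter fun u => u • (g • C.o) = g • C.o).card ≤ C.q ^ 2 := by
    refine le_trans (le_of_eq ?_) C.card_invol_H_le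
    rw [Nat.card_eq_fintype_card, Fintype.card_subtype]
    refine Finset.card_bij' (fun u _ => g⁻¹ * u * g) (fun u _ => g * u * g⁻¹) (fun u hu => ?_)
      (fun u hu => ?_) (fun u _ => by group) (fun u _ => by group)
    · simp only [Ifin, Finset.mem_filter, Finset.mem_univ, true_and] at hu ⊢
      exact ⟨C.mem_H_iff.2 (by rw [mul_smul, mul_smul, hu.2, inv_smul_smul]),
        by simpa using hu.1.conj g⁻¹⟩
    · simp only [Ifin, Finset.mem_filter, Finset.mem_univ, true_and] at hu ⊢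
      exact ⟨hu.2.conj g, C.orbit_fix (C.mem_H_iff.1 hu.1)⟩
  have hsub : (C.Ifin.filter fun u => C.Far u ∧ u • (g • C.o) = g • C.o) ⊆
      (C.Ifin.filter fun u => u • (g • C.o) = g • C.o).erase C.S.t := by
    intro u hu
    simp only [Finset.mem_filter] at hu
    refine Finset.mem_erase.2 ⟨?_, Finset.mem_filter.2 ⟨hu.1, hu.2.2⟩⟩
    rintro rfl
    exact hu.2.1.2 rfl
  have h := Finset.card_le_card hsub
  rw [Finset.card_erase_of_mem htM] at h
  omega

/-- The products fixing a point. -/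
theorem two_mul_card_fix_le :
    2 * (C.Ifin.filter fun u => C.Far u ∧ ∃ α : G ⧸ C.H, (C.S.t * u) • α = α).card ≤
      2 * ((C.q + 1) * (C.q ^ 2 - 1)) + (C.q ^ 3 - C.q) * (C.q - 3) := by
  haveI := Fintype.ofFinite (G ⧸ C.H)
  set F : Finset (G ⧸ C.H) := Finset.univ.filter fun α => C.S.t • α = α with hF
  set S := C.Ifin.filter fun u => C.Far u ∧ ∃ α : G ⧸ C.H, (C.S.t * u) • α = α with hS
  set rel : G → (G ⧸ C.H) → Prop := fun u α => u • α = C.S.t • α with hrel
  have key : ∀ u ∈ S, 2 ≤ 2 * (F.filter (rel u)).card + (Fᶜ.filter (rel u)).card := by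
    intro u hu
    simp only [hS, Ifin, Finset.mem_filter, Finset.mem_univ, true_and] at hu
    obtain ⟨hu0, hfar, α, hα⟩ := hu
    have hα' : u • α = C.S.t • α := by
      rw [mul_smul] at hα
      conv_rhs => rw [← hα]
      rw [smul_smul, C.S.t_sq, one_smul]
    by_cases hαF : α ∈ F
    · have : 0 < (F.filter (rel u)).card := Finset.card_pos.2 ⟨α, Finset.mem_filter.2 ⟨hαF, hα'⟩⟩
      omega
    · have hmem : ∀ β ∈ ({α, C.S.t • α} : Finset (G ⧸ C.H)), β ∈ Fᶜ.filter (rel u) := by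
        intro β hβ
        simp only [hF, Finset.mem_filter, Finset.mem_univ, true_and] at hαF
        rw [Finset.mem_insert, Finset.mem_singleton] at hβ
        simp only [Finset.mem_filter, Finset.mem_compl, hF, Finset.mem_univ, true_and, hrel]
        rcases hβ with rfl | rfl
        · exact ⟨hαF, hα'⟩
        · refine ⟨fun e => hαF ?_, ?_⟩
          · rw [smul_smul, C.S.t_sq, one_smul] at e
            exact e.symm
          · conv_lhs => rw [← hα']
            rw [smul_smul, smul_smul, hu0.2, C.S.t_sq]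
      have h2 := Finset.card_le_card hmem
      rw [Finset.card_pair (fun e => hαF (Finset.mem_filter.2 ⟨Finset.mem_univ _, e.symm⟩))] at h2
      omega
  have h1 : ∑ α ∈ F, (S.filter fun u => rel u α).card ≤ F.card * (C.q ^ 2 - 1) := by
    rw [Finset.card_eq_sum_ones F, Finset.sum_mul]
    refine Finset.sum_le_sum fun α hα => ?_
    rw [one_mul]
    have hα' := (Finset.mem_filter.1 hα).2
    refine (Finset.card_le_card fun u hu => ?_).trans (C.fixed_card_le α hα')
    simp only [hS, hrel, Finset.mem_filter] at hu ⊢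
    exact ⟨hu.1.1, hu.1.2.1, hu.2.trans hα'⟩
  have h2 : ∑ α ∈ Fᶜ, (S.filter fun u => rel u α).card ≤ Fᶜ.card * (C.q - 3) := by
    rw [Finset.card_eq_sum_ones Fᶜ, Finset.sum_mul]
    refine Finset.sum_le_sum fun α hα => ?_
    rw [one_mul]
    have hα' : C.S.t • α ≠ α := by simpa [hF] using hα
    refine (Finset.card_le_card fun u hu => ?_).trans (C.swap_card_le hα')
    simp only [hS, hrel, Finset.mem_filter] at hu ⊢
    exact ⟨hu.1.1, hu.1.2.1, hu.2⟩
  have h3 : 2 * S.card ≤ 2 * ∑ α ∈ F, (S.filter fun u => rel u α).card +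
      ∑ α ∈ Fᶜ, (S.filter fun u => rel u α).card := by
    calc 2 * S.card = ∑ _u ∈ S, 2 := by rw [Finset.sum_const, smul_eq_mul, mul_comm]
      _ ≤ ∑ u ∈ S, (2 * (F.filter (rel u)).card + (Fᶜ.filter (rel u)).card) := Finset.sum_le_sum key
      _ = _ := by
          rw [Finset.sum_add_distrib, ← Finset.mul_sum]
          simp only [Finset.card_filter]
          rw [Finset.sum_comm (s := S) (t := F), Finset.sum_comm (s := S) (t := Fᶜ)]
  have hf : F.card ≤ C.q + 1 := by
    have := C.card_fix_t_le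
    rwa [Nat.card_eq_fintype_card, Fintype.card_subtype] at this
  have hc : F.card + Fᶜ.card = C.q ^ 3 + 1 := by
    rw [Finset.card_add_card_compl, ← Nat.card_eq_fintype_card, C.card_points]
  have h27 := C.q_mem.2
  have hq3 : C.q ≤ C.q ^ 3 := Nat.le_self_pow (by norm_num) _
  have hq2 : C.q ≤ C.q ^ 2 - 1 := by
    have : C.q + 1 ≤ C.q ^ 2 := by nlinarith
    omega
  obtain ⟨f, hff⟩ : ∃ f, C.q + 1 = F.card + f := ⟨C.q + 1 - F.card, by omega⟩
  have hFc : Fᶜ.card = (C.q ^ 3 - C.q) + f := by omega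
  rw [hFc] at h2
  have h4 : f * (C.q - 3) ≤ 2 * (f * (C.q ^ 2 - 1)) := by
    have := Nat.mul_le_mul_left f (show C.q - 3 ≤ C.q ^ 2 - 1 by omega)
    omega
  refine le_trans (le_of_eq (show _ = 2 * S.card by simp only [hS]; congr 2; convert rfl)) ?_
  rw [hff, add_mul]
  rw [add_mul] at h2
  omega

/-- Many products have order with a prime of `q² - q + 1`. -/
theorem three_mul_card_dtype :
    C.q ^ 4 - C.q ^ 2 ≤ 3 * (C.Ifin.filter fun u => C.DType (C.S.t * u)).card := by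
  have hA := C.two_mul_card_fix_le
  have hB := C.six_mul_card_torus_le
  set Sc := C.Ifin.filter fun u => u * C.S.t = C.S.t * u with hSc
  set Sf := C.Ifin.filter fun u => C.Far u ∧ ∃ α : G ⧸ C.H, (C.S.t * u) • α = α with hSf
  set Sk := C.Ifin.filter fun u => C.Far u ∧ ∃ k : G, k⁻¹ * (C.S.t * u) * k ∈ C.S.K with hSk
  set Sd := C.Ifin.filter fun u => C.DType (C.S.t * u) with hSd
  have hsub : C.Ifin ⊆ Sc ∪ Sf ∪ Sk ∪ Sd := by
    intro u hu
    simp only [Finset.mem_union, hSc, hSf, hSk, hSd, Finset.mem_filter]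
    by_cases hc : u * C.S.t = C.S.t * u
    · exact Or.inl (Or.inl (Or.inl ⟨hu, hc⟩))
    have hfar : C.Far u := ⟨(Finset.mem_filter.1 hu).2, hc⟩
    rcases C.kinds (C.sq_ne_of_far hfar) with h | h | h
    · exact Or.inl (Or.inl (Or.inr ⟨hu, hfar, h⟩))
    · exact Or.inl (Or.inr ⟨hu, hfar, h⟩)
    · exact Or.inr ⟨hu, h⟩
  have h1 := (Finset.card_le_card hsub).trans ((Finset.card_union_le _ _).trans
    (Nat.add_le_add_right ((Finset.card_union_le _ _).trans
      (Nat.add_le_add_right (Finset.card_union_le _ _) _)) _))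
  have hc : Sc.card = C.q * (C.q - 1) + 1 := by
    rw [show C.q * (C.q - 1) + 1 = Nat.card {x : G // IsInvol x ∧ x * C.S.t = C.S.t * x} from
      (C.S.card_invol_cent).symm, Nat.card_eq_fintype_card, Fintype.card_subtype, hSc, Ifin,
      Finset.filter_filter]
  rw [C.card_Ifin, C.numInvol_eq, hc] at h1
  have h27 := C.q_mem.2
  have hdd := C.dd_add
  obtain ⟨a, ha⟩ : ∃ a, C.q = a + 3 := ⟨C.q - 3, by omega⟩
  generalize Sf.card = x at hA h1
  generalize Sk.card = y at hB h1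
  generalize Sd.card = z at h1 ⊢
  generalize C.q = q at *
  subst ha
  have e1 : (a + 3) - 1 = a + 2 := by omega
  have e2 : (a + 3) - 3 = a := by omega
  have e3 : (a + 3) ^ 2 - 1 = (a + 2) * (a + 4) := by
    rw [show (a + 3) ^ 2 = (a + 2) * (a + 4) + 1 by ring]; omega
  have e4 : (a + 3) * (a + 3) - 1 = (a + 2) * (a + 4) := by
    rw [show (a + 3) * (a + 3) = (a + 2) * (a + 4) + 1 by ring]; omega
  have e5 : (a + 3) ^ 3 - (a + 3) = (a + 3) * ((a + 2) * (a + 4)) := by
    rw [show (a + 3) ^ 3 = (a + 3) * ((a + 2) * (a + 4)) + (a + 3) by ring]; omega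
  have e6 : (a + 3) ^ 2 - (a + 3) = (a + 3) * (a + 2) := by
    rw [show (a + 3) ^ 2 = (a + 3) * (a + 2) + (a + 3) by ring]; omega
  have e7 : (a + 3) ^ 4 - (a + 3) ^ 2 = (a + 3) ^ 2 * ((a + 2) * (a + 4)) := by
    rw [show (a + 3) ^ 4 = (a + 3) ^ 2 * ((a + 2) * (a + 4)) + (a + 3) ^ 2 by ring]; omega
  rw [e2, e3, e5] at hA
  rw [e2, e4] at hB
  rw [e1, e6] at h1
  rw [e7]
  nlinarith

/-- The elements counted by the products. -/
theorem card_G_le_sum :
    C.q * Nat.card G ≤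
      3 * ∑ g ∈ Finset.univ.filter C.RealD, Nat.card (centralizer ({g} : Set G)) := by
  set Pr : G → G → Prop := fun a b => C.DType (a * b) with hP
  have hPr : ∀ g a b, Pr a b → Pr (g * a * g⁻¹) (g * b * g⁻¹) := by
    rintro g a b ⟨r, h1, h2, h3⟩
    refine ⟨r, h1, h2, ?_⟩
    rw [← conj_mul' g a b, show g * (a * b) * g⁻¹ = MulAut.conj g (a * b) from rfl, MulEquiv.orderOf_eq]
    exact h3
  have h1 := C.pairs_le Pr (Finset.univ.filter C.RealD) fun a b ha hb h =>
    Finset.mem_filter.2 ⟨Finset.mem_univ _, h, a, ha, invert_product ha hb⟩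
  rw [← C.pairs_eq Pr hPr] at h1
  have h2 := Nat.mul_le_mul_left C.Ifin.card C.three_mul_card_dtype
  have hN := C.S.N_mul C.hna
  change numInvol G * (C.q * (C.q * C.q - 1)) = Nat.card G at hN
  calc C.q * Nat.card G = C.Ifin.card * (C.q ^ 4 - C.q ^ 2) := by
        rw [← hN, C.card_Ifin, show C.q ^ 4 - C.q ^ 2 = C.q ^ 2 * (C.q * C.q - 1) by
          rw [Nat.mul_sub, mul_one]; ring_nf]
        ring
    _ ≤ C.Ifin.card * (3 * (C.Ifin.filter fun u => C.DType (C.S.t * u)).card) := h2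
    _ ≤ _ := by rw [Nat.mul_left_comm]; exact Nat.mul_le_mul_left _ h1

end Cfsg.Lib.PiOdd.Ctx
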