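import Cfsg.Agent.Lib.ReeTwoTrans.Action
import Mathlib.GroupTheory.GroupAction.Quotient

/-!
# A group of Ree type as a permutation group on `q³ + 1` points

The point stabilizer `H` of order `q³(q - 1)`, the two-point stabilizer, a cyclic group of order
`q - 1` inverted by the elements exchanging the two points, and the involutions of `H`.
-/

set_option autoImplicit false
set_option linter.unusedSectionVars false
set_option linter.style.haveILetI false

namespace Cfsg.Lib.PiOdd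

open Subgroup Cfsg Cfsg.Lib.ReeType MulAction

universe u v

/-- Ree type, the order, and a point stabilizer of the doubly transitive action. -/
structure Ctx (G : Type u) (L : Type v) [Group G] [Group L] (n T : ℕ) where
  S : Setup G L n T
  hna : ¬ IsMulCommutative G
  hord : Nat.card G = (3 ^ (2 * n + 1)) ^ 3 * ((3 ^ (2 * n + 1)) ^ 3 + 1) * (3 ^ (2 * n + 1) - 1)
  H : Subgroup G
  P : Sylow 3 G
  index_eq : H.index = (3 ^ (2 * n + 1)) ^ 3 + 1
  U_le : S.threeSub ≤ P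
  P_le : (P : Subgroup G) ≤ H
  le_norm : H ≤ normalizer ((P : Subgroup G) : Set G)
  t_mem : S.t ∈ H
  a_mem : S.φ S.D.a ∈ H
  two : IsMultiplyPretransitive G (G ⧸ H) 2

namespace Ctx

variable {G : Type u} {L : Type v} [Group G] [Group L] [Finite G] {n T : ℕ} (C : Ctx G L n T)

/-- The field size. -/
abbrev q (_C : Ctx G L n T) : ℕ := 3 ^ (2 * n + 1)

/-- The base point. -/
abbrev o : G ⧸ C.H := ((1 : G) : G ⧸ C.H)

/-- The second point. -/
abbrev o' : G ⧸ C.H := C.S.φ C.S.D.w • C.o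

/-- The generator of the two-point stabilizer. -/
abbrev c : G := C.S.t * C.S.φ C.S.D.a

/-- The two-point stabilizer. -/
abbrev A : Subgroup G := zpowers C.c

theorem q_mem : C.q % 8 = 3 ∧ 27 ≤ C.q := ⟨C.S.q_facts.1, C.S.q_facts.2.1⟩

theorem card_H : Nat.card C.H = C.q ^ 3 * (C.q - 1) := by
  refine Nat.eq_of_mul_eq_mul_right (show 0 < C.q ^ 3 + 1 by omega) ?_
  rw [← C.index_eq, C.H.card_mul_index, C.hord, C.index_eq]
  ring

theorem card_points : Nat.card (G ⧸ C.H) = C.q ^ 3 + 1 := by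
  rw [← C.index_eq, index_eq_card]

theorem stab_o : stabilizer G C.o = C.H := stabilizer_quotient C.H

theorem mem_H_iff {g : G} : g ∈ C.H ↔ g • C.o = C.o := by
  rw [← mem_stabilizer_iff, C.stab_o]

theorem exists_map {x y x' y' : G ⧸ C.H} (h : x ≠ y) (h' : x' ≠ y') :
    ∃ g : G, g • x = x' ∧ g • y = y' :=
  haveI := C.two
  is_two_pretransitive_iff.1 C.two h h'

theorem exists_to (x : G ⧸ C.H) : ∃ g : G, g • C.o = x := exists_smul_eq G C.o x

theorem orderOf_c : orderOf C.c = C.q - 1 := by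
  obtain ⟨hoa, -, hodd, -, h2m⟩ := ReeTwoTrans.torus_facts C.S
  rw [(show Commute C.S.t (C.S.φ C.S.D.a) from C.S.comm _).orderOf_mul_eq_mul_orderOf_of_coprime (by
    rw [C.S.orderOf_t, hoa]; exact hodd.coprime_two_left), C.S.orderOf_t, hoa, h2m]

theorem c_mem : C.c ∈ C.H := mul_mem C.t_mem C.a_mem

theorem A_le : C.A ≤ C.H := zpowers_le.2 C.c_mem

theorem card_A : Nat.card C.A = C.q - 1 := by rw [Nat.card_zpowers, C.orderOf_c]

theorem t_mem_A : C.S.t ∈ C.A := by
  obtain ⟨hoa, -, hodd, -, -⟩ := ReeTwoTrans.torus_facts C.S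
  obtain ⟨k, hk⟩ := hodd
  have h : C.c ^ (2 * T - 1) = C.S.t := by
    rw [(show Commute C.S.t (C.S.φ C.S.D.a) from C.S.comm _).mul_pow,
      show C.S.φ C.S.D.a ^ (2 * T - 1) = 1 from hoa ▸ pow_orderOf_eq_one _, mul_one, hk, pow_succ,
      pow_mul, sq, C.S.t_sq, one_pow, one_mul]
  exact h ▸ pow_mem (mem_zpowers _) _

theorem a_mem_A : C.S.φ C.S.D.a ∈ C.A := by
  have h := mul_mem C.t_mem_A (mem_zpowers C.c)
  rwa [C.S.t_mul_t_mul] at h

theorem φw_inv_c : C.S.φ C.S.D.w * C.c * (C.S.φ C.S.D.w)⁻¹ = C.c⁻¹ := by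
  rw [mul_inv_rev, C.S.t_inv, ← map_inv C.S.φ C.S.D.a, ← C.S.comm, ← C.S.D.w_inv, map_mul, map_mul,
    map_inv]
  calc C.S.φ C.S.D.w * (C.S.t * C.S.φ C.S.D.a) * (C.S.φ C.S.D.w)⁻¹ =
        C.S.φ C.S.D.w * C.S.t * (C.S.φ C.S.D.a * (C.S.φ C.S.D.w)⁻¹) := by group
    _ = C.S.t * (C.S.φ C.S.D.w * C.S.φ C.S.D.a * (C.S.φ C.S.D.w)⁻¹) := by rw [← C.S.comm]; group

theorem φw_inv {x : G} (hx : x ∈ C.A) : C.S.φ C.S.D.w * x * (C.S.φ C.S.D.w)⁻¹ = x⁻¹ := by
  obtain ⟨k, rfl⟩ := mem_zpowers_iff.1 hx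
  rw [← conj_zpow, C.φw_inv_c, inv_zpow]

theorem φw_ne : C.S.φ C.S.D.w ≠ 1 ∧ C.S.φ C.S.D.w ≠ C.S.t := by
  refine ⟨fun h => ?_, C.S.not_mem _⟩
  have h1 := C.φw_inv_c
  rw [h, one_mul, inv_one, mul_one, eq_inv_iff_mul_eq_one, ← sq] at h1
  have h2 := orderOf_dvd_of_pow_eq_one h1
  rw [C.orderOf_c] at h2
  have := Nat.le_of_dvd two_pos h2
  have := C.q_mem.2
  omega

/-- `w` moves the base point: the four-group `⟨t, w⟩` is too large for `H`. -/
theorem φw_not_mem : C.S.φ C.S.D.w ∉ C.H := by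
  intro h
  set w := C.S.φ C.S.D.w with hw
  have hw2 : w * w = 1 := by rw [hw, ← map_mul, C.S.D.w_sq, map_one]
  have htw : C.S.t * w = w * C.S.t := C.S.comm _
  let V : Subgroup G :=
    { carrier := {g | g = 1 ∨ g = C.S.t ∨ g = w ∨ g = C.S.t * w}
      one_mem' := Or.inl rfl
      mul_mem' := by
        have e2 : w * (C.S.t * w) = C.S.t := by rw [htw, ← mul_assoc, hw2, one_mul]
        have e4 : C.S.t * w * w = C.S.t := by rw [mul_assoc, hw2, mul_one]
        have e5 : C.S.t * w * C.S.t = w := by rw [htw, mul_assoc, C.S.t_sq, mul_one]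
        have e6 : C.S.t * w * (C.S.t * w) = 1 := by rw [← mul_assoc, e5, hw2]
        rintro x y (rfl | rfl | rfl | rfl) (rfl | rfl | rfl | rfl) <;>
          simp [C.S.t_sq, C.S.t_mul_t_mul, hw2, ← htw, e2, e4, e5, e6]
      inv_mem' := by
        have e3 : (C.S.t * w)⁻¹ = C.S.t * w := by
          rw [mul_inv_rev, C.S.t_inv, inv_eq_of_mul_eq_one_right hw2, htw]
        rintro x (rfl | rfl | rfl | rfl) <;>
          simp [C.S.t_inv, inv_eq_of_mul_eq_one_right hw2, e3, ← htw] }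
  have hle : V ≤ C.H := by
    rintro x (rfl | rfl | rfl | rfl)
    · exact one_mem _
    · exact C.t_mem
    · exact h
    · exact mul_mem C.t_mem h
  have h4 : Nat.card V = 4 := by
    have hset : (V : Set G) = {1, C.S.t, w, C.S.t * w} := rfl
    rw [show Nat.card V = (V : Set G).ncard from Nat.card_coe_set_eq _, hset]
    have n2 : C.S.t * w ≠ 1 := fun e => C.φw_ne.2 (by
      show w = C.S.t
      rw [eq_inv_of_mul_eq_one_right e, C.S.t_inv])
    rw [Set.ncard_insert_of_notMem (by simp [Ne.symm C.S.t_ne, Ne.symm n2, show (1 : G) ≠ w from Ne.symm C.φw_ne.1]),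
      Set.ncard_insert_of_notMem (by
        simp only [Set.mem_insert_iff, Set.mem_singleton_iff, not_or]
        exact ⟨C.φw_ne.2.symm, fun e => C.φw_ne.1 (mul_left_cancel (e.symm.trans (mul_one _).symm))⟩),
      Set.ncard_insert_of_notMem (by
        rw [Set.mem_singleton_iff]
        exact fun e => C.S.t_ne (mul_right_cancel (e.symm.trans (one_mul _).symm))),
      Set.ncard_singleton]
  have h' := card_dvd_of_le hle
  rw [h4, C.card_H] at h'
  have h8 := C.q_mem.1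
  have hodd : Nat.Coprime 4 (C.q ^ 3) := by
    refine Nat.Coprime.pow_right 3 ?_
    rw [show (4 : ℕ) = 2 ^ 2 from rfl]
    exact (Nat.coprime_two_left.2 (Nat.odd_iff.2 (by omega))).pow_left 2
  have := hodd.dvd_of_dvd_mul_left h'
  omega

theorem o'_ne : C.o' ≠ C.o := fun h => C.φw_not_mem (C.mem_H_iff.2 h)

theorem A_fix {x : G} (hx : x ∈ C.A) : x • C.o = C.o ∧ x • C.o' = C.o' := by
  refine ⟨C.mem_H_iff.1 (C.A_le hx), ?_⟩
  have h : C.S.φ C.S.D.w * x⁻¹ * (C.S.φ C.S.D.w)⁻¹ = x := by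
    rw [C.φw_inv (inv_mem hx), inv_inv]
  rw [Ctx.o', smul_smul, ← h, inv_mul_cancel_right, mul_smul,
    C.mem_H_iff.1 (C.A_le (inv_mem hx))]

/-- The stabilizer of the two base points. -/
theorem mem_A_iff {g : G} : g ∈ C.A ↔ g • C.o = C.o ∧ g • C.o' = C.o' := by
  refine ⟨C.A_fix, fun hg => ?_⟩
  set W : Subgroup G := stabilizer G C.o ⊓ stabilizer G C.o' with hW
  have hAW : C.A ≤ W := fun x hx => C.A_fix hx
  suffices hle : Nat.card W ≤ Nat.card C.A from eq_of_le_of_card_ge hAW hle ▸ hg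
  have horb : ∀ y : G ⧸ C.H, y ≠ C.o → y ∈ orbit C.H C.o' := fun y hy => by
    obtain ⟨g, h1, h2⟩ := C.exists_map C.o'_ne.symm hy.symm
    exact ⟨⟨g, C.mem_H_iff.2 h1⟩, h2⟩
  have hcard : C.q ^ 3 ≤ Nat.card (orbit C.H C.o') := by
    have h1 : Set.ncard {y : G ⧸ C.H | y ≠ C.o} = C.q ^ 3 := by
      have h := Set.ncard_add_ncard_compl ({C.o} : Set (G ⧸ C.H))
      rw [Set.ncard_singleton, C.card_points] at h
      have e : ({C.o}ᶜ : Set (G ⧸ C.H)) = {y | y ≠ C.o} := rfl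
      rw [e] at h
      omega
    rw [← h1, Nat.card_coe_set_eq]
    exact Set.ncard_le_ncard fun y hy => horb y hy
  have hmul : Nat.card (orbit C.H C.o') * Nat.card (stabilizer C.H C.o') = Nat.card C.H := by
    rw [← Nat.card_prod]
    exact Nat.card_congr (orbitProdStabilizerEquivGroup C.H C.o')
  have hst : Nat.card (stabilizer C.H C.o') = Nat.card W := by
    refine Nat.card_congr
      { toFun := fun x => ⟨x.1.1, C.mem_H_iff.1 x.1.2, x.2⟩
        invFun := fun x => ⟨⟨x.1, C.mem_H_iff.2 x.2.1⟩, x.2.2⟩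
        left_inv := fun _ => rfl
        right_inv := fun _ => rfl }
  rw [hst, C.card_H] at hmul
  rw [C.card_A]
  have h2 : C.q ^ 3 * Nat.card W ≤ C.q ^ 3 * (C.q - 1) := hmul ▸ Nat.mul_le_mul_right _ hcard
  exact Nat.le_of_mul_le_mul_left h2 (Nat.pow_pos (by positivity))

/-- The elements exchanging the two base points invert their stabilizer. -/
theorem swap_inverts {g : G} (h1 : g • C.o = C.o') (h2 : g • C.o' = C.o) {x : G} (hx : x ∈ C.A) :
    g * x * g⁻¹ = x⁻¹ := by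
  have hw2 : C.S.φ C.S.D.w * C.S.φ C.S.D.w = 1 := by rw [← map_mul, C.S.D.w_sq, map_one]
  have hmem : C.S.φ C.S.D.w * g ∈ C.A := by
    rw [C.mem_A_iff, mul_smul, h1, mul_smul, h2]
    exact ⟨by rw [Ctx.o', smul_smul, hw2, one_smul], rfl⟩
  obtain ⟨y, hy, rfl⟩ : ∃ y ∈ C.A, g = C.S.φ C.S.D.w * y :=
    ⟨_, hmem, by rw [← mul_assoc, hw2, one_mul]⟩
  have hc : y * x * y⁻¹ = x := by
    have : IsMulCommutative C.A := IsCyclic.isMulCommutative
    have h := congrArg Subtype.val (mul_comm' (⟨y, hy⟩ : C.A) ⟨x, hx⟩)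
    simp only [Subgroup.coe_mul] at h
    rw [h, mul_inv_cancel_right]
  calc C.S.φ C.S.D.w * y * x * (C.S.φ C.S.D.w * y)⁻¹ =
        C.S.φ C.S.D.w * (y * x * y⁻¹) * (C.S.φ C.S.D.w)⁻¹ := by group
    _ = x⁻¹ := by rw [hc, C.φw_inv hx]

theorem card_invol_H_le : Nat.card {u : G // u ∈ C.H ∧ IsInvol u} ≤ C.q ^ 2 := by
  classical
  haveI : Fact (Nat.Prime 2) := ⟨Nat.prime_two⟩
  set t' : C.H := ⟨C.S.t, C.t_mem⟩ with ht'
  have h8 := C.q_mem.1
  have hq : Odd C.q := Nat.odd_iff.2 (by omega)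
  -- Sylow two-subgroups of `H` have order two
  have hfac : (Nat.card C.H).factorization 2 = 1 := by
    have h1 : C.q - 1 = 2 * ((C.q - 1) / 2) := by omega
    have h2 : ¬ 2 ∣ C.q ^ 3 * ((C.q - 1) / 2) := by
      rw [Nat.Prime.dvd_mul Nat.prime_two]
      rintro (h | h)
      · have := Nat.prime_two.dvd_of_dvd_pow h
        omega
      · omega
    rw [C.card_H, h1, ← mul_assoc, mul_comm (C.q ^ 3) 2, mul_assoc,
      Nat.factorization_mul two_ne_zero (fun h => h2 (by rw [h]; exact dvd_zero 2)), Finsupp.add_apply,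
      Nat.prime_two.factorization_self, Nat.factorization_eq_zero_of_not_dvd h2]
  have hord' : orderOf t' = 2 := by rw [← orderOf_coe]; exact C.S.orderOf_t
  let T₀ : Sylow 2 C.H := Sylow.ofCard (zpowers t') (by rw [Nat.card_zpowers, hord', hfac, pow_one])
  have hconj : ∀ x : C.H, IsInvol x → ∃ h : C.H, h * t' * h⁻¹ = x := by
    intro x hx
    obtain ⟨Q, hQ⟩ := (IsPGroup.of_card (n := 1) (by
      rw [Nat.card_zpowers, pow_one]; exact orderOf_eq_prime (by rw [sq, hx.2]) hx.1) :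
      IsPGroup 2 (zpowers x)).exists_le_sylow
    obtain ⟨h, hh⟩ := exists_smul_eq C.H T₀ Q
    have hxQ := hQ (mem_zpowers x)
    rw [← hh, Sylow.coe_subgroup_smul] at hxQ
    obtain ⟨y, hy, hyx⟩ := hxQ
    have hy1 : y ≠ 1 := fun e => hx.1 (by rw [← hyx, e]; simp)
    rcases mem_zpowers_iff.1 hy with ⟨k, rfl⟩
    refine ⟨h, ?_⟩
    rw [← hyx]
    rcases Int.even_or_odd k with ⟨r, rfl⟩ | ⟨r, rfl⟩
    · refine absurd ?_ hy1
      rw [← two_mul, _root_.zpow_mul, show t' ^ (2 : ℤ) = 1 by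
        rw [zpow_two]; exact Subtype.ext C.S.t_sq, _root_.one_zpow]
    · show _ = h * t' ^ (2 * r + 1) * h⁻¹
      rw [_root_.zpow_add, _root_.zpow_mul, show t' ^ (2 : ℤ) = 1 by
        rw [zpow_two]; exact Subtype.ext C.S.t_sq, _root_.one_zpow, one_mul, zpow_one]
  have hcard : Nat.card {x : C.H // IsInvol x} = (centralizer ({t'} : Set C.H)).index :=
    card_of_transitive _ t' ⟨fun h => C.S.t_ne (congrArg Subtype.val h), Subtype.ext C.S.t_sq⟩
      (fun g _ hx => hx.conj g) hconj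
  have heq : Nat.card {u : G // u ∈ C.H ∧ IsInvol u} = Nat.card {x : C.H // IsInvol x} :=
    Nat.card_congr
      { toFun := fun u => ⟨⟨u.1, u.2.1⟩, fun h => u.2.2.1 (congrArg Subtype.val h), Subtype.ext u.2.2.2⟩
        invFun := fun x => ⟨x.1.1, x.1.2, fun h => x.2.1 (Subtype.ext h), congrArg Subtype.val x.2.2⟩
        left_inv := fun _ => rfl
        right_inv := fun _ => rfl }
  rw [heq, hcard]
  set Z := centralizer ({t'} : Set C.H) with hZ
  have hU : C.S.threeSub.subgroupOf C.H ≤ Z := fun x hx =>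
    mem_centralizer_singleton_iff.2 (Subtype.ext (C.S.t_threeSub hx).symm)
  have hA : C.A.subgroupOf C.H ≤ Z := fun x hx => by
    have : IsMulCommutative C.A := IsCyclic.isMulCommutative
    have h := congrArg Subtype.val (mul_comm' (⟨x, hx⟩ : C.A) ⟨C.S.t, C.t_mem_A⟩)
    exact mem_centralizer_singleton_iff.2 (Subtype.ext h)
  have d1 := card_dvd_of_le hU
  have d2 := card_dvd_of_le hA
  rw [Nat.card_congr (subgroupOfEquivOfLe (C.U_le.trans C.P_le)).toEquiv, C.S.card_threeSub] at d1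
  rw [Nat.card_congr (subgroupOfEquivOfLe C.A_le).toEquiv, C.card_A] at d2
  have hcop : Nat.Coprime C.q (C.q - 1) := by
    have := C.q_mem.2
    rw [Nat.coprime_self_sub_right (by omega)]
    exact Nat.coprime_one_right _
  have hd := Nat.le_of_dvd Nat.card_pos (hcop.mul_dvd_of_dvd_of_dvd d1 d2)
  have hm := Z.card_mul_index
  rw [C.card_H] at hm
  have h0 : 0 < C.q * (C.q - 1) := by have := C.q_mem.2; exact Nat.mul_pos (by omega) (by omega)
  refine Nat.le_of_mul_le_mul_left ?_ h0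
  calc C.q * (C.q - 1) * Z.index ≤ Nat.card Z * Z.index := Nat.mul_le_mul_right _ hd
    _ = C.q ^ 3 * (C.q - 1) := hm
    _ = C.q * (C.q - 1) * C.q ^ 2 := by ring

end Ctx

end Cfsg.Lib.PiOdd
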