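import Cfsg.Agent.Lib.PiOdd.Ctx

/-!
# Fixed points in a group of Ree type

Elements of order three fix one point, an involution at most `q + 1`.
-/

set_option autoImplicit false
set_option linter.unusedSectionVars false
set_option linter.style.haveILetI false

namespace Cfsg.Lib.PiOdd.Ctx

open Subgroup Cfsg Cfsg.Lib.ReeType MulAction

universe u v

variable {G : Type u} {L : Type v} [Group G] [Group L] [Finite G] {n T : ℕ} (C : Ctx G L n T)

theorem orbit_fix {g h : G} {x : G ⧸ C.H} (hx : g • x = x) : (h * g * h⁻¹) • (h • x) = h • x := by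
  rw [smul_smul, inv_mul_cancel_right, mul_smul, hx]

theorem fix_of_comm {g y : G} (h : g * y = y * g) {x : G ⧸ C.H} (hx : y • x = x) :
    y • (g • x) = g • x := by
  rw [smul_smul, ← h, mul_smul, hx]

theorem card_P : Nat.card (C.P : Subgroup G) = C.q ^ 3 := by
  haveI : Fact (Nat.Prime 3) := ⟨Nat.prime_three⟩
  have h8 := C.q_mem
  have hdq : 3 ∣ C.q := C.S.q_facts.2.2.2.2.2
  have h1 : ¬ 3 ∣ (C.q ^ 3 + 1) * (C.q - 1) := by
    rw [Nat.Prime.dvd_mul Nat.prime_three]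
    have hdq3 : 3 ∣ C.q ^ 3 := dvd_pow hdq (by norm_num)
    omega
  have h0 : (C.q ^ 3 + 1) * (C.q - 1) ≠ 0 := fun h => h1 (by rw [h]; exact dvd_zero 3)
  rw [C.P.card_eq_multiplicity, C.hord, mul_assoc, Nat.factorization_mul (by positivity) h0,
    Finsupp.add_apply, Nat.factorization_eq_zero_of_not_dvd h1, add_zero, ← pow_mul,
    Nat.prime_three.factorization_pow, Finsupp.single_eq_same, pow_mul]

theorem three_pow_eq_one {x : G} (hx : x ∈ C.A) {j : ℕ} (h : x ^ 3 ^ j = 1) : x = 1 := by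
  have h1 : orderOf x ∣ C.q - 1 := C.card_A ▸ Subgroup.orderOf_dvd_natCard _ hx
  have h2 : orderOf x ∣ 3 ^ j := orderOf_dvd_of_pow_eq_one h
  refine orderOf_eq_one_iff.1 (Nat.eq_one_of_dvd_coprimes ?_ h2 h1)
  refine Nat.Coprime.pow_left j ((Nat.prime_three.coprime_iff_not_dvd).2 ?_)
  have : 3 ∣ C.q := C.S.q_facts.2.2.2.2.2
  have := C.q_mem.2
  omega

theorem P_regular {p : G} (hp : p ∈ (C.P : Subgroup G)) (h : p • C.o' = C.o') : p = 1 := by
  obtain ⟨j, hj⟩ := C.P.isPGroup' ⟨p, hp⟩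
  exact C.three_pow_eq_one (C.mem_A_iff.2 ⟨C.mem_H_iff.1 (C.P_le hp), h⟩)
    (by simpa using congrArg Subtype.val hj)

/-- `P` is regular on the points other than the base point. -/
theorem exists_P_map {x : G ⧸ C.H} (hx : x ≠ C.o) : ∃ p ∈ (C.P : Subgroup G), p • C.o' = x := by
  classical
  haveI := Fintype.ofFinite (G ⧸ C.H)
  haveI : Fintype (C.P : Subgroup G) := Fintype.ofFinite _
  let f : ↥(C.P : Subgroup G) → {y : G ⧸ C.H // y ≠ C.o} := fun p => ⟨(p : G) • C.o', fun h => C.o'_ne (by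
    have h2 := congrArg (fun y => (p : G)⁻¹ • y) h
    simp only [inv_smul_smul] at h2
    rw [h2, C.mem_H_iff.1 (inv_mem (C.P_le p.2))])⟩
  have hf : Function.Injective f := fun p p' h => by
    have h1 : (p : G) • C.o' = (p' : G) • C.o' := congrArg Subtype.val h
    have h2 := C.P_regular (mul_mem (inv_mem p'.2) p.2) (by rw [mul_smul, h1, inv_smul_smul])
    exact Subtype.ext (inv_mul_eq_one.1 h2).symm
  have hcard : Fintype.card (C.P : Subgroup G) = Fintype.card {y : G ⧸ C.H // y ≠ C.o} := by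
    rw [← Nat.card_eq_fintype_card, C.card_P, Fintype.card_subtype_compl, Fintype.card_subtype_eq,
      ← Nat.card_eq_fintype_card, C.card_points, Nat.add_sub_cancel]
  obtain ⟨p, hp⟩ := ((Fintype.bijective_iff_injective_and_card f).2 ⟨hf, hcard⟩).2 ⟨x, hx⟩
  exact ⟨p, p.2, congrArg Subtype.val hp⟩

/-- An element of order three fixes exactly one point. -/
theorem three_fix {x : G} (hx : orderOf x = 3) :
    ∃ α : G ⧸ C.H, x • α = α ∧ ∀ β, x • β = β → β = α := by
  haveI : Fact (Nat.Prime 3) := ⟨Nat.prime_three⟩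
  obtain ⟨Q, hQ⟩ := (IsPGroup.of_card (n := 1) (by rw [Nat.card_zpowers, hx, pow_one]) :
    IsPGroup 3 (zpowers x)).exists_le_sylow
  obtain ⟨g, rfl⟩ := exists_smul_eq G C.P Q
  have hxQ := hQ (mem_zpowers x)
  rw [Sylow.coe_subgroup_smul] at hxQ
  obtain ⟨y, hy, hyx⟩ := hxQ
  have hyx' : g * y * g⁻¹ = x := hyx
  refine ⟨g • C.o, ?_, fun β hβ => ?_⟩
  · rw [← hyx']
    exact C.orbit_fix (C.mem_H_iff.1 (C.P_le hy))
  by_contra hne
  obtain ⟨k, h1, h2⟩ := C.exists_map C.o'_ne.symm (Ne.symm hne)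
  have hA : k⁻¹ * x * k ∈ C.A := by
    have hx1 : x • (g • C.o) = g • C.o := by
      rw [← hyx']; exact C.orbit_fix (C.mem_H_iff.1 (C.P_le hy))
    rw [C.mem_A_iff, mul_smul, mul_smul, h1, hx1, ← h1, inv_smul_smul, mul_smul, mul_smul, h2, hβ,
      ← h2, inv_smul_smul]
    exact ⟨rfl, rfl⟩
  have h3 := C.three_pow_eq_one hA (j := 1) (by
    rw [pow_one, pow_three, show k⁻¹ * x * k * ((k⁻¹ * x * k) * (k⁻¹ * x * k)) = k⁻¹ * (x * (x * x)) * k
      by group, ← pow_three, ← hx, pow_orderOf_eq_one]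
    group)
  rw [show x = k * (k⁻¹ * x * k) * k⁻¹ by group, h3, mul_one, mul_inv_cancel, orderOf_one] at hx
  omega

variable [IsSimpleGroup G]

theorem card_cent_t : Nat.card (centralizer ({C.S.t} : Set G)) = C.q * (C.q * C.q - 1) := by
  haveI := C.S.finite_L
  exact C.S.card_cent

theorem numInvol_eq : numInvol G = C.q ^ 2 * (C.q ^ 2 - C.q + 1) := by
  have h : numInvol G * (C.q * (C.q * C.q - 1)) = C.q ^ 3 * (C.q ^ 3 + 1) * (C.q - 1) :=
    (C.S.N_mul C.hna).trans C.hord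
  have h27 := C.q_mem.2
  set q := C.q with hq
  obtain ⟨a, ha⟩ : ∃ a, q = a + 1 := ⟨q - 1, by omega⟩
  refine Nat.eq_of_mul_eq_mul_right (show 0 < q * (q * q - 1) from Nat.mul_pos (by omega) (by
    have : 27 * 27 ≤ q * q := Nat.mul_le_mul h27 h27
    omega)) (h.trans ?_)
  rw [ha, show (a + 1) * (a + 1) - 1 = a * (a + 2) by
      rw [show (a + 1) * (a + 1) = a * (a + 2) + 1 by ring, Nat.add_sub_cancel],
    show a + 1 - 1 = a from rfl,
    show (a + 1) ^ 2 - (a + 1) = a * (a + 1) by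
      rw [show (a + 1) ^ 2 = a * (a + 1) + (a + 1) by ring, Nat.add_sub_cancel]]
  ring

theorem card_fix_t_le : Nat.card {x : G ⧸ C.H // C.S.t • x = x} ≤ C.q + 1 := by
  classical
  haveI := Fintype.ofFinite G
  haveI := Fintype.ofFinite (G ⧸ C.H)
  set I : Finset G := Finset.univ.filter IsInvol with hI
  have hcols : ∀ u ∈ I, (Finset.univ.filter fun x : G ⧸ C.H => u • x = x).card =
      Nat.card {x : G ⧸ C.H // C.S.t • x = x} := by
    intro u hu
    obtain ⟨hu1, hu2⟩ := (Finset.mem_filter.1 hu).2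
    obtain ⟨g, hg⟩ := C.S.exists_conj_t C.hna hu2 hu1
    rw [Nat.card_eq_fintype_card, Fintype.card_subtype, ← hg]
    refine Finset.card_bij' (fun x _ => g⁻¹ • x) (fun x _ => g • x) (fun x hx => ?_) (fun x hx => ?_)
      (fun x _ => smul_inv_smul g x) (fun x _ => inv_smul_smul g x)
    · rw [Finset.mem_filter] at hx ⊢
      refine ⟨Finset.mem_univ _, ?_⟩
      conv_rhs => rw [← hx.2]
      rw [mul_smul, mul_smul, inv_smul_smul]
    · rw [Finset.mem_filter] at hx ⊢
      exact ⟨Finset.mem_univ _, C.orbit_fix hx.2⟩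
  have hrows : ∀ x : G ⧸ C.H, (I.filter fun u => u • x = x).card ≤ C.q ^ 2 := by
    intro x
    obtain ⟨g, rfl⟩ := C.exists_to x
    refine le_trans (le_of_eq ?_) C.card_invol_H_le
    rw [Nat.card_eq_fintype_card, Fintype.card_subtype]
    refine Finset.card_bij' (fun u _ => g⁻¹ * u * g) (fun u _ => g * u * g⁻¹) (fun u hu => ?_)
      (fun u hu => ?_) (fun u _ => by group) (fun u _ => by group)
    · simp only [hI, Finset.mem_filter] at hu ⊢
      refine ⟨Finset.mem_univ _, C.mem_H_iff.2 (by rw [mul_smul, mul_smul, hu.2, inv_smul_smul]), ?_⟩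
      simpa using hu.1.2.conj g⁻¹
    · simp only [hI, Finset.mem_filter] at hu ⊢
      exact ⟨⟨Finset.mem_univ _, hu.2.2.conj g⟩, C.orbit_fix (C.mem_H_iff.1 hu.2.1)⟩
  have key : I.card * Nat.card {x : G ⧸ C.H // C.S.t • x = x} ≤
      (C.q ^ 3 + 1) * C.q ^ 2 := by
    calc I.card * Nat.card {x : G ⧸ C.H // C.S.t • x = x} =
          ∑ u ∈ I, (Finset.univ.filter fun x : G ⧸ C.H => u • x = x).card := by
          rw [Finset.sum_congr rfl hcols, Finset.sum_const, smul_eq_mul]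
      _ = ∑ x : G ⧸ C.H, (I.filter fun u => u • x = x).card := by
          simp only [Finset.card_filter]
          rw [Finset.sum_comm]
      _ ≤ ∑ _x : G ⧸ C.H, C.q ^ 2 := Finset.sum_le_sum fun x _ => hrows x
      _ = (C.q ^ 3 + 1) * C.q ^ 2 := by
          rw [Finset.sum_const, smul_eq_mul, Finset.card_univ, ← Nat.card_eq_fintype_card, C.card_points]
  have hN : I.card = numInvol G := by rw [numInvol, Nat.card_eq_fintype_card, Fintype.card_subtype]
  rw [hN, C.numInvol_eq] at key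
  have h27 := C.q_mem.2
  set q := C.q with hq
  have hd : (q + 1) * (q ^ 2 - q + 1) = q ^ 3 + 1 := by
    obtain ⟨a, ha⟩ : ∃ a, q = a + 1 := ⟨q - 1, by omega⟩
    rw [ha, show (a + 1) ^ 2 - (a + 1) = a * (a + 1) by
      rw [show (a + 1) ^ 2 = a * (a + 1) + (a + 1) by ring, Nat.add_sub_cancel]]
    ring
  refine Nat.le_of_mul_le_mul_left ?_ (show 0 < q ^ 2 * (q ^ 2 - q + 1) from
    Nat.mul_pos (by positivity) (by omega))
  calc q ^ 2 * (q ^ 2 - q + 1) * Nat.card {x : G ⧸ C.H // C.S.t • x = x} ≤ (q ^ 3 + 1) * q ^ 2 := key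
    _ = q ^ 2 * (q ^ 2 - q + 1) * (q + 1) := by rw [← hd]; ring

end Cfsg.Lib.PiOdd.Ctx
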