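import Mathlib.GroupTheory.Index
import Mathlib.GroupTheory.OrderOfElement
import Mathlib.GroupTheory.SpecificGroups.Cyclic
import Mathlib.Algebra.Group.Subgroup.Basic

/-!
# Groups whose `π`-subgroups have `π`-automizers, `π` odd
-/

set_option autoImplicit false

namespace Cfsg.Lib.PiOdd

open Subgroup

universe u

/-- Every automizer of a nontrivial `π`-subgroup is a `π`-group. -/
def HomPi (π : Set ℕ) (G : Type u) [Group G] : Prop :=
  ∀ H : Subgroup G, H ≠ ⊥ → (∀ p : ℕ, p.Prime → p ∣ Nat.card ↥H → p ∈ π) →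
    ∀ p : ℕ, p.Prime →
      p ∣ (centralizer (H : Set G)).relIndex (normalizer (H : Set G)) → p ∈ π

variable {π : Set ℕ} {G : Type u} [Group G] [Finite G]

/-- An element of prime order `s` normalizing and moving a `π`-subgroup puts `s` into `π`. -/
theorem HomPi.mem_of_moves (h : HomPi π G) {H : Subgroup G}
    (hH : ∀ p : ℕ, p.Prime → p ∣ Nat.card ↥H → p ∈ π) {x : G} {s : ℕ} (hs : s.Prime)
    (hx : orderOf x = s) (hN : x ∈ normalizer (H : Set G)) (hC : x ∉ centralizer (H : Set G)) :
    s ∈ π := by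
  have hne : H ≠ ⊥ := fun e => hC (by
    rw [e, mem_centralizer_iff]
    intro y hy
    rw [mem_bot.1 hy, one_mul, mul_one])
  refine h H hne hH s hs ?_
  by_contra hd
  refine hC ?_
  set C := centralizer (H : Set G)
  set N := normalizer (H : Set G) with hNdef
  have hle : C ≤ N := by
    intro y hy
    rw [hNdef, mem_normalizer_iff]
    intro z
    rw [mem_centralizer_iff] at hy
    constructor
    · intro hz; rwa [← hy z hz, mul_inv_cancel_right]
    · intro hz
      have e := hy _ hz
      rw [mul_assoc, inv_mul_cancel, mul_one] at e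
      rw [mul_left_cancel e]; exact hz
  haveI : (C.subgroupOf N).Normal := by
    refine ⟨fun c hc g => ?_⟩
    rw [mem_subgroupOf, mem_centralizer_iff] at hc ⊢
    intro y hy
    have hy' : (g : G)⁻¹ * y * g ∈ H := by
      simpa using (mem_normalizer_iff.1 (inv_mem g.2) y).1 hy
    have e := hc _ hy'
    push_cast
    calc y * ((g : G) * c * (g : G)⁻¹) = (g : G) * ((g : G)⁻¹ * y * g * c) * (g : G)⁻¹ := by group
      _ = (g : G) * (c * ((g : G)⁻¹ * y * g)) * (g : G)⁻¹ := by rw [e]
      _ = (g : G) * c * (g : G)⁻¹ * y := by group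
  have hpow : (⟨x, hN⟩ : N) ^ (C.relIndex N) ∈ C.subgroupOf N := by
    rw [relIndex]; exact pow_index_mem _ _
  have hcop : (C.relIndex N).Coprime (orderOf x) := by
    rw [hx]; exact ((hs.coprime_iff_not_dvd).2 hd).symm
  obtain ⟨j, hj⟩ := exists_pow_eq_self_of_coprime hcop
  rw [← hj]
  exact pow_mem hpow j

/-- An element of order two normalizing and moving a subgroup contradicts `π` odd. -/
theorem HomPi.false_of_inverted (h : HomPi π G) (hodd : ∀ p ∈ π, p ≠ 2) {x a : G} {p : ℕ}
    (hp : p.Prime) (hpπ : p ∈ π) (hx : orderOf x = p) (ha1 : a ≠ 1) (ha : a * a = 1)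
    (hax : a * x * a⁻¹ = x⁻¹) : False := by
  refine hodd 2 (h.mem_of_moves (H := zpowers x) (x := a) (fun r hr hrd => ?_) Nat.prime_two
    (orderOf_eq_prime (by rw [sq, ha]) ha1) ?_ ?_) rfl
  · rw [Nat.card_zpowers, hx] at hrd
    exact ((Nat.prime_dvd_prime_iff_eq hr hp).1 hrd) ▸ hpπ
  · rw [mem_normalizer_iff]
    intro y
    have key : ∀ z ∈ zpowers x, a * z * a⁻¹ ∈ zpowers x := fun z hz => by
      obtain ⟨k, rfl⟩ := mem_zpowers_iff.1 hz
      rw [← conj_zpow, hax]
      exact zpow_mem (inv_mem (mem_zpowers x)) k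
    refine ⟨key y, fun hy => ?_⟩
    have := key _ hy
    rwa [show a * (a * y * a⁻¹) * a⁻¹ = (a * a) * y * (a * a)⁻¹ by group, ha, one_mul, inv_one,
      mul_one] at this
  · intro hC
    have e := (mem_centralizer_iff.1 hC) x (mem_zpowers x)
    rw [← e, mul_inv_cancel_right, eq_inv_iff_mul_eq_one, ← sq] at hax
    have h2 := orderOf_dvd_of_pow_eq_one hax
    rw [hx] at h2
    exact hodd p hpπ ((Nat.prime_dvd_prime_iff_eq hp Nat.prime_two).1 h2)

end Cfsg.Lib.PiOdd
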