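import Cfsg.Agent.Lib.PiOdd.TorusCent

/-!
# The kinds of elements of a group of Ree type

An element of order above two fixes a point, or is conjugate into the torus of order `q + 1`, or has
order divisible by a prime of `q² - q + 1` and then a centralizer of order dividing `q² - q + 1`.
-/

set_option autoImplicit false
set_option linter.unusedSectionVars false
set_option linter.style.haveILetI false

namespace Cfsg.Lib.PiOdd.Ctx

open Subgroup Cfsg Cfsg.Lib.ReeType MulAction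

universe u v

variable {G : Type u} {L : Type v} [Group G] [Group L] [Finite G] {n T : ℕ} (C : Ctx G L n T)

/-- The order of the remaining tori. -/
abbrev dd : ℕ := C.q ^ 2 - C.q + 1

/-- Order divisible by a prime of `q² - q + 1`. -/
def DType (_C : Ctx G L n T) (g : G) : Prop :=
  ∃ r : ℕ, r.Prime ∧ r ∣ _C.dd ∧ r ∣ orderOf g

theorem dd_add : C.dd + C.q = C.q ^ 2 + 1 := by
  have h1 : C.q ≤ C.q ^ 2 := Nat.le_self_pow two_ne_zero _
  show C.q ^ 2 - C.q + 1 + C.q = _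
  omega

theorem card_G_eq : Nat.card G = C.q ^ 3 * (C.q + 1) * (C.q - 1) * C.dd := by
  have h := C.dd_add
  rw [C.hord, show (3 ^ (2 * n + 1)) ^ 3 + 1 = (C.q + 1) * C.dd by
    show C.q ^ 3 + 1 = _
    refine Nat.add_right_cancel (m := (C.q + 1) * C.q) ?_
    rw [← Nat.mul_add, h]
    ring]
  ring

/-- The primes of `q² - q + 1` divide neither `q` nor `q² - 1`. -/
theorem dd_prime {r : ℕ} (hr : r.Prime) (hd : r ∣ C.dd) :
    ¬ r ∣ C.q ∧ ¬ r ∣ C.q - 1 ∧ ¬ r ∣ C.q + 1 ∧ r ≠ 2 ∧ r ≠ 3 := by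
  have hadd := C.dd_add
  have hq3 : 3 ∣ C.q := C.S.q_facts.2.2.2.2.2
  have h8 := C.q_mem.1
  have h27 := C.q_mem.2
  have hq : ¬ r ∣ C.q := fun h => by
    have h1 : r ∣ C.q ^ 2 + 1 := hadd ▸ hd.add h
    rw [Nat.dvd_add_right (h.trans (dvd_pow_self _ two_ne_zero))] at h1
    exact hr.ne_one (Nat.dvd_one.1 h1)
  have h3 : r ≠ 3 := fun h => hq (h ▸ hq3)
  have h2 : r ≠ 2 := by
    rintro rfl
    obtain ⟨a, ha⟩ : ∃ a, C.q = 2 * a + 1 := ⟨C.q / 2, by omega⟩
    rw [ha, show (2 * a + 1) ^ 2 + 1 = 2 * (2 * a * a + 2 * a + 1) by ring] at hadd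
    obtain ⟨b, hb⟩ := hd
    omega
  refine ⟨hq, fun h => ?_, fun h => ?_, h2, h3⟩
  · obtain ⟨a, ha⟩ : ∃ a, C.q = a + 1 := ⟨C.q - 1, by omega⟩
    rw [show C.q - 1 = a by omega] at h
    rw [ha, show (a + 1) ^ 2 + 1 = a * (a + 1) + 1 + (a + 1) by ring] at hadd
    have h1 : r ∣ a * (a + 1) + 1 := by
      rwa [← Nat.add_right_cancel hadd]
    rw [Nat.dvd_add_right (h.mul_right _)] at h1
    exact hr.ne_one (Nat.dvd_one.1 h1)
  · obtain ⟨a, ha⟩ : ∃ a, C.q = a + 2 := ⟨C.q - 2, by omega⟩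
    rw [ha] at h hadd
    rw [show (a + 2) ^ 2 + 1 = a * (a + 3) + 3 + (a + 2) by ring] at hadd
    rw [Nat.add_right_cancel hadd, Nat.dvd_add_right ((show r ∣ a + 3 from h).mul_left _)] at hd
    exact h3 ((Nat.prime_dvd_prime_iff_eq hr Nat.prime_three).1 hd)

theorem prime_cases {p : ℕ} (hp : p.Prime) (hd : p ∣ Nat.card G) :
    p = 2 ∨ p = 3 ∨ p ∣ 2 * T - 1 ∨ p ∣ T ∨ p ∣ C.dd := by
  obtain ⟨-, -, -, -, h2m⟩ := ReeTwoTrans.torus_facts C.S
  have h4 : 4 * T = C.q + 1 := C.S.hT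
  rw [C.card_G_eq, hp.dvd_mul, hp.dvd_mul, hp.dvd_mul] at hd
  rcases hd with ((h | h) | h) | h
  · exact Or.inr (Or.inl ((Nat.prime_dvd_prime_iff_eq hp Nat.prime_three).1
      (hp.dvd_of_dvd_pow (hp.dvd_of_dvd_pow h))))
  · rw [← h4, show 4 * T = 2 * (2 * T) by ring, hp.dvd_mul, hp.dvd_mul] at h
    rcases h with h | h | h
    · exact Or.inl ((Nat.prime_dvd_prime_iff_eq hp Nat.prime_two).1 h)
    · exact Or.inl ((Nat.prime_dvd_prime_iff_eq hp Nat.prime_two).1 h)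
    · exact Or.inr (Or.inr (Or.inr (Or.inl h)))
  · rw [show C.q - 1 = 2 * (2 * T - 1) from h2m.symm, hp.dvd_mul] at h
    rcases h with h | h
    · exact Or.inl ((Nat.prime_dvd_prime_iff_eq hp Nat.prime_two).1 h)
    · exact Or.inr (Or.inr (Or.inl h))
  · exact Or.inr (Or.inr (Or.inr (Or.inr h)))

variable [IsSimpleGroup G]

/-- An element of prime order dividing `T` is conjugate into the torus. -/
theorem exists_conj_Tsub {p : ℕ} (hp : p.Prime) (hd : p ∣ T) {y : G} (hy : orderOf y = p) :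
    ∃ g : G, g⁻¹ * y * g ∈ C.S.Tsub := by
  haveI : Fact p.Prime := ⟨hp⟩
  obtain ⟨h4, h2, h7, h3⟩ := C.torus_arith
  have hp2 : p ≠ 2 := by rintro rfl; omega
  have hq : ¬ p ∣ C.q ^ 3 * (C.q - 1) := C.card_H ▸ C.not_dvd_card_H hp hd
  have hdd : ¬ p ∣ C.dd := fun h => (C.dd_prime hp h).2.2.1 (h4 ▸ hd.mul_left 4)
  have hfac : (Nat.card G).factorization p = T.factorization p := by
    have hne : C.q ^ 3 * (C.q - 1) * C.dd ≠ 0 := fun h => by
      rcases mul_eq_zero.1 h with e | e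
      · exact hq (by rw [e]; exact dvd_zero p)
      · exact hdd (by rw [e]; exact dvd_zero p)
    rw [C.card_G_eq, show C.q ^ 3 * (C.q + 1) * (C.q - 1) * C.dd =
      4 * T * (C.q ^ 3 * (C.q - 1) * C.dd) by rw [h4]; ring,
      Nat.factorization_mul (by omega) hne, Nat.factorization_mul (by norm_num) (by omega)]
    simp only [Finsupp.add_apply]
    rw [Nat.factorization_eq_zero_of_not_dvd (n := C.q ^ 3 * (C.q - 1) * C.dd) (by
        rw [hp.dvd_mul]; rintro (h | h); exacts [hq h, hdd h]),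
      Nat.factorization_eq_zero_of_not_dvd (n := 4) (fun h => hp2
        ((Nat.prime_dvd_prime_iff_eq hp Nat.prime_two).1
          (hp.dvd_of_dvd_pow (show p ∣ 2 ^ 2 from h)))), zero_add, add_zero]
  obtain ⟨P₀⟩ := (inferInstance : Nonempty (Sylow p C.S.Tsub))
  let P₁ : Sylow p G := Sylow.ofCard ((P₀ : Subgroup C.S.Tsub).map C.S.Tsub.subtype) (by
    rw [← Nat.card_congr (equivMapOfInjective _ _ C.S.Tsub.subtype_injective).toEquiv,
      P₀.card_eq_multiplicity, C.S.card_Tsub, hfac])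
  obtain ⟨Q, hQ⟩ := (IsPGroup.of_card (n := 1) (by rw [Nat.card_zpowers, hy, pow_one]) :
    IsPGroup p (zpowers y)).exists_le_sylow
  obtain ⟨g, rfl⟩ := exists_smul_eq G P₁ Q
  have hyQ := hQ (mem_zpowers y)
  rw [Sylow.coe_subgroup_smul] at hyQ
  obtain ⟨z, hz, hzy⟩ := hyQ
  refine ⟨g, ?_⟩
  rw [show g⁻¹ * y * g = z by rw [← hzy]; simp [mul_assoc]]
  exact map_subtype_le _ hz

/-- The centralizer of an element of prime order dividing `T`. -/
theorem cent_conj_K {p : ℕ} (hp : p.Prime) (hd : p ∣ T) {y x : G} (hy : orderOf y = p)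
    (hx : x * y = y * x) : ∃ g : G, g⁻¹ * y * g ∈ C.S.Tsub ∧ g⁻¹ * x * g ∈ C.S.K := by
  obtain ⟨g, hg⟩ := C.exists_conj_Tsub hp hd hy
  refine ⟨g, hg, C.cent_torus_elem hp hd hg ?_ ?_⟩
  · rw [show g⁻¹ * y * g = MulAut.conj g⁻¹ y by simp, MulEquiv.orderOf_eq, hy]
  · rw [show g⁻¹ * x * g * (g⁻¹ * y * g) = g⁻¹ * (x * y) * g by group, hx]; group

/-- An element centralizing one of odd prime order dividing `q - 1` fixes a point. -/
theorem fix_of_split {p : ℕ} (hp : p.Prime) (hd : p ∣ 2 * T - 1) {y x : G} (hy : orderOf y = p)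
    (hx : x * y = y * x) : ∃ α : G ⧸ C.H, x • α = α := by
  obtain ⟨g, hg⟩ := C.exists_conj_A hp hd hy
  obtain ⟨y', hy'⟩ : ∃ y', y' = g⁻¹ * y * g := ⟨_, rfl⟩
  obtain ⟨x', hx'⟩ : ∃ x', x' = g⁻¹ * x * g := ⟨_, rfl⟩
  have hc : x' * y' = y' * x' := by
    rw [hx', hy', show g⁻¹ * x * g * (g⁻¹ * y * g) = g⁻¹ * (x * y) * g by group, hx]; group
  rw [← hy'] at hg
  have ho : orderOf y' = p := by
    rw [hy', show g⁻¹ * y * g = MulAut.conj g⁻¹ y by simp, MulEquiv.orderOf_eq, hy]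
  refine ⟨g • C.o, ?_⟩
  suffices h : x' • C.o = C.o by
    rw [show x = g * x' * g⁻¹ by rw [hx']; group]
    exact C.orbit_fix h
  rcases C.base_fix hp hd hg ho (C.fix_of_comm hc (C.A_fix hg).1) with h | h
  · exact h
  rcases C.base_fix hp hd hg ho (C.fix_of_comm hc (C.A_fix hg).2) with h' | h'
  · exfalso
    have hinv := C.swap_inverts h h' hg
    rw [mul_inv_eq_iff_eq_mul.2 hc, eq_inv_iff_mul_eq_one, ← sq] at hinv
    have h2 := orderOf_dvd_of_pow_eq_one hinv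
    rw [ho] at h2
    have h2' := (Nat.prime_dvd_prime_iff_eq hp Nat.prime_two).1 h2
    obtain ⟨-, -, hodd, -, -⟩ := ReeTwoTrans.torus_facts C.S
    rw [h2'] at hd
    rw [Nat.odd_iff] at hodd
    omega
  · exact absurd ((smul_left_cancel_iff x').1 (h.trans h'.symm)) C.o'_ne.symm

/-- The centralizer of an element with order divisible by a prime of `q² - q + 1`. -/
theorem card_cent_dvd {g : G} (hg : C.DType g) :
    Nat.card (centralizer ({g} : Set G)) ∣ C.dd := by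
  obtain ⟨r, hr, hrd, hro⟩ := hg
  obtain ⟨hrq, hrm, hrp, hr2, hr3⟩ := C.dd_prime hr hrd
  obtain ⟨-, -, -, -, h2m⟩ := ReeTwoTrans.torus_facts C.S
  obtain ⟨x, hxo, hxg⟩ : ∃ x, orderOf x = r ∧ ∀ y, y * g = g * y → y * x = x * y :=
    ⟨g ^ (orderOf g / r), orderOf_pow_orderOf_div (orderOf_pos g).ne' hro,
      fun y hy => ((show Commute y g from hy).pow_right _).eq⟩
  -- `x` fixes no point
  have hfree : ∀ α : G ⧸ C.H, x • α ≠ α := by
    intro α h
    obtain ⟨k, rfl⟩ := C.exists_to α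
    have hm : k⁻¹ * x * k ∈ C.H := C.mem_H_iff.2 (by rw [mul_smul, mul_smul, h, inv_smul_smul])
    have h1 := Subgroup.orderOf_dvd_natCard _ hm
    rw [show k⁻¹ * x * k = MulAut.conj k⁻¹ x by simp, MulEquiv.orderOf_eq, hxo, C.card_H, hr.dvd_mul] at h1
    rcases h1 with h1 | h1
    · exact hrq (hr.dvd_of_dvd_pow h1)
    · exact hrm h1
  set Z := centralizer ({g} : Set G) with hZ
  have hprimes : ∀ p, p.Prime → p ∣ Nat.card Z → ¬ p ∣ C.q ^ 3 * (C.q + 1) * (C.q - 1) := by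
    intro p hp hpd hbad
    haveI : Fact p.Prime := ⟨hp⟩
    obtain ⟨y, hy⟩ := exists_prime_orderOf_dvd_card' p hpd
    have hyo : orderOf (y : G) = p := by rw [orderOf_coe, hy]
    have hyx : (y : G) * x = x * y := hxg _ (mem_centralizer_singleton_iff.1 y.2)
    rcases C.prime_cases hp (hpd.trans (card_subgroup_dvd_card Z)) with e | e | e | e | e
    · -- an involution
      subst e
      have hy2 : (y : G) * y = 1 := by rw [← sq, ← hyo, pow_orderOf_eq_one]
      have hy1 : (y : G) ≠ 1 := fun e => by rw [e, orderOf_one] at hyo; omega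
      obtain ⟨k, hk⟩ := C.S.exists_conj_t C.hna hy2 hy1
      have hc : k⁻¹ * x * k ∈ centralizer ({C.S.t} : Set G) := mem_centralizer_singleton_iff.2 (by
        have h : k⁻¹ * ((y : G) * x) * k = k⁻¹ * (x * y) * k := by rw [hyx]
        rw [← hk] at h
        calc k⁻¹ * x * k * C.S.t = k⁻¹ * (x * (k * C.S.t * k⁻¹)) * k := by group
          _ = k⁻¹ * (k * C.S.t * k⁻¹ * x) * k := h.symm
          _ = C.S.t * (k⁻¹ * x * k) := by group)
      have h1 := Subgroup.orderOf_dvd_natCard _ hc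
      rw [show k⁻¹ * x * k = MulAut.conj k⁻¹ x by simp, MulEquiv.orderOf_eq, hxo, C.card_cent_t,
        hr.dvd_mul, show C.q * C.q - 1 = (C.q + 1) * (C.q - 1) by
          rw [← Nat.sq_sub_sq, sq, one_pow], hr.dvd_mul] at h1
      tauto
    · subst e
      obtain ⟨α, hα, huniq⟩ := C.three_fix hyo
      exact hfree α (huniq _ (C.fix_of_comm hyx.symm hα))
    · obtain ⟨α, hα⟩ := C.fix_of_split hp e hyo hyx.symm
      exact hfree α hα
    · obtain ⟨k, -, hk⟩ := C.cent_conj_K hp e hyo hyx.symm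
      have h1 := Subgroup.orderOf_dvd_natCard _ hk
      rw [show k⁻¹ * x * k = MulAut.conj k⁻¹ x by simp, MulEquiv.orderOf_eq, hxo, C.S.card_K,
        show 4 * T = C.q + 1 from C.S.hT] at h1
      exact hrp h1
    · obtain ⟨h1, h2, h3, -, -⟩ := C.dd_prime hp e
      rw [hp.dvd_mul, hp.dvd_mul] at hbad
      rcases hbad with (h | h) | h
      exacts [h1 (hp.dvd_of_dvd_pow h), h3 h, h2 h]
  have hd := card_subgroup_dvd_card Z
  rw [C.card_G_eq] at hd
  exact (Nat.coprime_of_dvd fun p hp h1 h2 => hprimes p hp h1 h2).dvd_of_dvd_mul_left hd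

/-- The three kinds. -/
theorem kinds {g : G} (hg : g * g ≠ 1) :
    (∃ α : G ⧸ C.H, g • α = α) ∨ (∃ k : G, k⁻¹ * g * k ∈ C.S.K) ∨ C.DType g := by
  by_cases h : ∃ p, p.Prime ∧ p ≠ 2 ∧ p ∣ orderOf g
  · obtain ⟨p, hp, hp2, hpd⟩ := h
    have hc : g * g ^ (orderOf g / p) = g ^ (orderOf g / p) * g := (Commute.self_pow g _).eq
    have hy := orderOf_pow_orderOf_div (orderOf_pos g).ne' hpd
    rcases C.prime_cases hp (hpd.trans (orderOf_dvd_natCard g)) with e | e | e | e | e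
    · exact absurd e hp2
    · subst e
      obtain ⟨α, hα, huniq⟩ := C.three_fix hy
      exact Or.inl ⟨α, huniq _ (C.fix_of_comm hc hα)⟩
    · exact Or.inl (C.fix_of_split hp e hy hc)
    · obtain ⟨k, -, hk⟩ := C.cent_conj_K hp e hy hc
      exact Or.inr (Or.inl ⟨k, hk⟩)
    · exact Or.inr (Or.inr ⟨p, hp, e, hpd⟩)
  · exfalso
    push Not at h
    obtain ⟨j, hj⟩ : ∃ j, orderOf g = 2 ^ j :=
      ⟨_, Nat.eq_prime_pow_of_unique_prime_dvd (orderOf_pos g).ne' fun {d} hd hdd =>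
        by_contra fun hd2 => h d hd hd2 hdd⟩
    exact hg (C.S.sq_of_pow_two_pow (hj ▸ pow_orderOf_eq_one g))

end Cfsg.Lib.PiOdd.Ctx
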