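import Cfsg.Agent.Lib.PiOdd.Simple
import Cfsg.Agent.Lib.Coprime.Conjugacy
import Cfsg.Agent.S0205

/-!
# The reduction to simple groups
-/

set_option autoImplicit false
set_option linter.style.haveILetI false
set_option linter.unusedSectionVars false

namespace Cfsg.Lib.PiOdd

open Cfsg.Lib.PiHom Cfsg.Lib
open scoped Pointwise

universe u

variable {π : Set ℕ} {G : Type u} [Group G] [Finite G]

theorem isSolvable_of_piGrp (hodd : ∀ p ∈ π, p ≠ 2) {X : Subgroup G} (hX : PiGrp π X) :
    Group.IsSolvable X :=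
  Cfsg.Agent.S0205.result (Nat.not_even_iff_odd.1 fun he =>
    hodd 2 (hX 2 Nat.prime_two (even_iff_two_dvd.1 he)) rfl)

theorem SylHyp.subgroup (h : SylHyp G) (U : Subgroup G) : SylHyp U := by
  refine h.imp (fun hab T => ?_) (fun hD => hD.subgroup U)
  haveI : Fact (Nat.Prime 2) := ⟨Nat.prime_two⟩
  obtain ⟨S, hS⟩ := (T.isPGroup'.map U.subtype).exists_le_sylow
  refine ⟨⟨fun a b => ?_⟩⟩
  have e := (hab S).is_comm.comm ⟨_, hS ⟨a.1, a.2, rfl⟩⟩ ⟨_, hS ⟨b.1, b.2, rfl⟩⟩
  exact Subtype.ext (Subtype.ext (congrArg (fun z : (S : Subgroup G) => (z : G)) e))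

theorem SylHyp.quotient (h : SylHyp G) (N : Subgroup G) [N.Normal] : SylHyp (G ⧸ N) := by
  refine h.imp (fun hab T => ?_) (fun hD => hD.quotient N)
  haveI : Fact (Nat.Prime 2) := ⟨Nat.prime_two⟩
  obtain ⟨S, rfl⟩ := Sylow.mapSurjective_surjective (QuotientGroup.mk'_surjective N) 2 T
  refine ⟨⟨fun a b => ?_⟩⟩
  obtain ⟨x, hx, hxa⟩ := a.2
  obtain ⟨y, hy, hyb⟩ := b.2
  have e := (hab S).is_comm.comm ⟨x, hx⟩ ⟨y, hy⟩
  apply Subtype.ext
  show (a : G ⧸ N) * b = b * a
  rw [← hxa, ← hyb, ← map_mul, ← map_mul, show x * y = y * x from congrArg Subtype.val e]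

/-- The quotient by a normal π'-subgroup satisfies the hypotheses. -/
theorem quotient_of_coPi (h : HomPi π G) (hodd : ∀ p ∈ π, p ≠ 2) (N : Subgroup G) [N.Normal]
    (hN : ∀ x ∈ N, CoPi π x) : HomPi π (G ⧸ N) := by
  set f := QuotientGroup.mk' N
  have hf : Function.Surjective f := QuotientGroup.mk'_surjective N
  have hNc : ∀ p : ℕ, p.Prime → p ∣ Nat.card N → p ∉ π := fun p hp hd => by
    haveI := Fact.mk hp
    obtain ⟨x, hx⟩ := exists_prime_orderOf_dvd_card' p hd
    exact hN x x.2 p hp (by rw [Subgroup.orderOf_coe, hx])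
  have key : ∀ H : Subgroup (G ⧸ N), PiGrp π H → ∃ X : Subgroup G, PiGrp π X ∧ X.map f = H ∧
      ∀ Y : Subgroup G, Y ≤ H.comap f → Nat.card Y = Nat.card X →
        ∃ n ∈ N, Y = X.map (MulAut.conj n).toMonoidHom := by
    intro H hH
    have hle : N ≤ H.comap f := fun x hx => by
      rw [Subgroup.mem_comap, show f x = 1 from (QuotientGroup.eq_one_iff x).2 hx]; exact one_mem _
    have hidx : N.relIndex (H.comap f) = Nat.card H := by
      have := Subgroup.relIndex_ker (H.comap f) f
      rwa [QuotientGroup.ker_mk', Subgroup.map_comap_eq_self_of_surjective hf] at this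
    obtain ⟨B, hB⟩ := Subgroup.exists_right_complement'_of_coprime (N := N.subgroupOf (H.comap f)) (by
      rw [Nat.card_congr (Subgroup.subgroupOfEquivOfLe hle).toEquiv]
      refine Nat.coprime_of_dvd fun p hp h1 h2 => hNc p hp h1 (hH p hp ?_)
      rw [← hidx]; exact h2)
    set X := B.map (H.comap f).subtype
    have hXc : Nat.card X = Nat.card H := by
      rw [Subgroup.card_map_of_injective (H.comap f).subtype_injective, ← hB.symm.index_eq_card]
      exact hidx
    have hX : PiGrp π X := fun p hp hd => hH p hp (hXc ▸ hd)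
    have hsup : N ⊔ X = H.comap f := by
      conv_lhs => arg 1; rw [← Subgroup.map_subgroupOf_eq_of_le hle]
      rw [← Subgroup.map_sup, hB.sup_eq_top, ← MonoidHom.range_eq_map, Subgroup.range_subtype]
    refine ⟨X, hX, ?_, fun Y hY hYc => ?_⟩
    · have := congrArg (Subgroup.map f) hsup
      rw [Subgroup.map_sup, Subgroup.map_comap_eq_self_of_surjective hf,
        show N.map f = ⊥ from (Subgroup.map_eq_bot_iff N).2 (by rw [QuotientGroup.ker_mk']),
        bot_sup_eq] at this
      exact this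
    · exact Cfsg.Lib.Coprime.exists_conj_of_coprime N X Y
        (fun _ _ => by rw [Subgroup.normalizer_eq_top_iff.2 inferInstance]; exact Subgroup.mem_top _)
        (Nat.coprime_of_dvd fun p hp h1 h2 => hNc p hp h2 (hX p hp h1))
        (Or.inl (isSolvable_of_piGrp hodd hX)) (hsup ▸ hY) hYc
  refine homPi_of_centralizes fun H y hH hy hyc => ?_
  obtain ⟨X, hX, hXH, hconj⟩ := key H hH
  obtain ⟨w, rfl⟩ := hf y
  have hY : X.map (MulAut.conj w).toMonoidHom ≤ H.comap f := by
    rintro _ ⟨x, hx, rfl⟩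
    have hxH : f x ∈ H := hXH ▸ ⟨x, hx, rfl⟩
    show f (w * x * w⁻¹) ∈ H
    rw [map_mul, map_mul, map_inv]
    exact (Subgroup.mem_normalizer_iff.1 hy _).1 hxH
  obtain ⟨n, hn, hwn⟩ := hconj _ hY (Subgroup.card_map_of_injective (MulAut.conj w).injective)
  have hw1 : n⁻¹ * w ∈ Subgroup.normalizer (X : Set G) := by
    rw [Subgroup.mem_normalizer_iff]
    intro x
    have e1 : x ∈ X ↔ w * x * w⁻¹ ∈ X.map (MulAut.conj w).toMonoidHom :=
      ⟨fun hx => ⟨x, hx, rfl⟩, fun ⟨a, ha, e⟩ => by
        rwa [← (MulAut.conj w).injective (show MulAut.conj w a = MulAut.conj w x from e)]⟩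
    rw [e1, hwn]
    constructor
    · rintro ⟨a, ha, e⟩
      have e' : n * a * n⁻¹ = w * x * w⁻¹ := e
      rw [show n⁻¹ * w * x * (n⁻¹ * w)⁻¹ = n⁻¹ * (w * x * w⁻¹) * n by group, ← e']
      simpa [mul_assoc] using ha
    · intro hx
      exact ⟨_, hx, show n * (n⁻¹ * w * x * (n⁻¹ * w)⁻¹) * n⁻¹ = w * x * w⁻¹ by group⟩
  have hfw : f (n⁻¹ * w) = f w := by
    rw [map_mul, map_inv, show f n = 1 from (QuotientGroup.eq_one_iff n).2 hn, inv_one, one_mul]
  obtain ⟨k, hk, hkf⟩ := exists_coPi_lift f (n⁻¹ * w) (hfw ▸ hyc)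
  have hc := h.coPi_centralizes hX hk (pow_mem hw1 k)
  rw [hfw] at hkf
  rw [← hkf, ← hXH]
  exact Subgroup.map_centralizer_le_centralizer_image _ f ⟨_, hc, rfl⟩

/-- The quotient by a central π-subgroup satisfies the hypotheses. -/
theorem quotient_of_central (h : HomPi π G) (N : Subgroup G) [N.Normal] (hN : PiGrp π N) :
    HomPi π (G ⧸ N) := by
  set f := QuotientGroup.mk' N
  have hf : Function.Surjective f := QuotientGroup.mk'_surjective N
  have key : ∀ H : Subgroup (G ⧸ N), PiGrp π H → PiGrp π (H.comap f) := by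
    intro H hH p hp hd
    have hle : N ≤ H.comap f := fun x hx => by
      rw [Subgroup.mem_comap, show f x = 1 from (QuotientGroup.eq_one_iff x).2 hx]; exact one_mem _
    have hidx := Subgroup.relIndex_ker (H.comap f) f
    rw [QuotientGroup.ker_mk', Subgroup.map_comap_eq_self_of_surjective hf] at hidx
    rw [← Subgroup.card_mul_index (N.subgroupOf (H.comap f)),
      Nat.card_congr (Subgroup.subgroupOfEquivOfLe hle).toEquiv] at hd
    rcases hp.dvd_mul.1 hd with h1 | h1
    · exact hN p hp h1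
    · exact hH p hp (hidx ▸ h1)
  refine homPi_of_centralizes fun H y hH hy hyc => ?_
  obtain ⟨w, rfl⟩ := hf y
  obtain ⟨k, hk, hkf⟩ := exists_coPi_lift f w hyc
  have hn : w ^ k ∈ Subgroup.normalizer ((H.comap f : Subgroup G) : Set G) := by
    rw [← hkf] at hy
    rw [Subgroup.mem_normalizer_iff]
    intro x
    simp only [Subgroup.mem_comap, map_mul, map_inv]
    exact Subgroup.mem_normalizer_iff.1 hy _
  have hc := Subgroup.mem_centralizer_iff.1 (h.coPi_centralizes (key H hH) hk hn)
  rw [← hkf, Subgroup.mem_centralizer_iff]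
  intro a ha
  obtain ⟨x, rfl⟩ := hf a
  rw [← map_mul, ← map_mul, hc x ha]

/-- The hard direction, given that there is no minimal counterexample. -/
theorem closed_of_homPi {π : Set ℕ} (hodd : ∀ p ∈ π, p ≠ 2) {G : Type u} [Group G] [Finite G]
    (hS : SylHyp G) (h : HomPi π G) : Closed π G := by
  suffices H : ∀ m : ℕ, ∀ (X : Type u) [Group X] [Finite X], Nat.card X = m → SylHyp X → HomPi π X →
      Closed π X from
    H _ G rfl hS h
  intro m
  induction m using Nat.strong_induction_on with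
  | _ m ih =>
  intro G _ _ hm hS h
  have hsub : ∀ U : Subgroup G, U ≠ ⊤ → Closed π ↥U := fun U hU =>
    ih _ (hm ▸ lt_of_le_of_ne (Nat.le_of_dvd Nat.card_pos U.card_subgroup_dvd_card)
      fun e => hU (U.card_eq_iff_eq_top.1 e)) ↥U rfl (hS.subgroup U) (h.of_injective U.subtype U.subtype_injective)
  have hquot : ∀ (N : Subgroup G) [N.Normal], N ≠ ⊥ → HomPi π (G ⧸ N) → Closed π (G ⧸ N) := by
    intro N _ hN hq
    refine ih _ (hm ▸ ?_) _ rfl (hS.quotient N) hq
    rw [← N.index_eq_card, ← N.index_mul_card]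
    exact lt_mul_of_one_lt_right (Nat.pos_of_ne_zero Subgroup.index_ne_zero_of_finite)
      (N.one_lt_card_iff_ne_bot.2 hN)
  by_cases hex : ∃ N : Subgroup G, N.Normal ∧ N ≠ ⊥ ∧ N ≠ ⊤
  · obtain ⟨N, hNn, hNb, hNt⟩ := hex
    obtain ⟨K, hK⟩ := hsub N hNt
    set K' : Subgroup G := K.map N.subtype
    have hK' : ∀ x, x ∈ K' ↔ x ∈ N ∧ CoPi π x := by
      intro x
      constructor
      · rintro ⟨y, hy, rfl⟩
        exact ⟨y.2, (coPi_map_iff N.subtype N.subtype_injective y).2 ((hK y).1 hy)⟩
      · rintro ⟨hx, hc⟩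
        exact ⟨⟨x, hx⟩, (hK _).2 ((coPi_map_iff N.subtype N.subtype_injective ⟨x, hx⟩).1 hc), rfl⟩
    haveI hK'n : K'.Normal := ⟨fun x hx g =>
      (hK' _).2 ⟨hNn.conj_mem x ((hK' x).1 hx).1 g, (coPi_conj g x).2 ((hK' x).1 hx).2⟩⟩
    by_cases hb : K' = ⊥
    · have hNpi : PiGrp π N := by
        intro p hp hd
        by_contra hpi
        haveI := Fact.mk hp
        obtain ⟨x, hx⟩ := exists_prime_orderOf_dvd_card' p hd
        have hx1 : (x : G) ∈ K' := (hK' _).2 ⟨x.2, fun q hq hqd => by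
          rw [Subgroup.orderOf_coe, hx] at hqd
          rwa [(Nat.prime_dvd_prime_iff_eq hq hp).1 hqd]⟩
        rw [hb, Subgroup.mem_bot, OneMemClass.coe_eq_one] at hx1
        rw [hx1, orderOf_one] at hx
        exact hp.ne_one hx.symm
      have hcent : ∀ x : G, CoPi π x → x ∈ Subgroup.centralizer (N : Set G) := fun x hx =>
        h.coPi_centralizes hNpi hx (by rw [Subgroup.normalizer_eq_top_iff.2 hNn]; exact Subgroup.mem_top _)
      by_cases hC : Subgroup.centralizer (N : Set G) = ⊤
      · obtain ⟨Kq, hKq⟩ := hquot N hNb (quotient_of_central h N hNpi)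
        set f := QuotientGroup.mk' N
        set K1 := Kq.comap f
        have hle : N ≤ K1 := fun x hx => by
          rw [Subgroup.mem_comap, show f x = 1 from (QuotientGroup.eq_one_iff x).2 hx]; exact one_mem _
        have hidx : N.relIndex K1 = Nat.card Kq := by
          have := Subgroup.relIndex_ker K1 f
          rwa [QuotientGroup.ker_mk',
            Subgroup.map_comap_eq_self_of_surjective (QuotientGroup.mk'_surjective N)] at this
        have hKqc : ∀ p : ℕ, p.Prime → p ∣ Nat.card Kq → p ∉ π := fun p hp hd => by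
          haveI := Fact.mk hp
          obtain ⟨x, hx⟩ := exists_prime_orderOf_dvd_card' p hd
          exact (hKq _).1 x.2 p hp (by rw [Subgroup.orderOf_coe, hx])
        obtain ⟨B, hB⟩ := Subgroup.exists_right_complement'_of_coprime (N := N.subgroupOf K1) (by
          rw [Nat.card_congr (Subgroup.subgroupOfEquivOfLe hle).toEquiv]
          refine Nat.coprime_of_dvd fun p hp h1 h2 => hKqc p hp ?_ (hNpi p hp h1)
          rw [← hidx]; exact h2)
        have hBc : ∀ b ∈ B, CoPi π ((b : K1) : G) := fun b hb p hp hd => by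
          rw [Subgroup.orderOf_coe] at hd
          refine hKqc p hp ?_
          rw [← hidx, Subgroup.relIndex, hB.symm.index_eq_card]
          exact hd.trans (Subgroup.orderOf_dvd_natCard B hb)
        refine ⟨B.map K1.subtype, fun x => ⟨?_, fun hx => ?_⟩⟩
        · rintro ⟨b, hb, rfl⟩
          exact hBc b hb
        · have hx1 : x ∈ K1 := (hKq _).2 (coPi_of_dvd hx (orderOf_map_dvd f x))
          obtain ⟨⟨n, b⟩, hnb, -⟩ := Subgroup.isComplement'_def.1 hB |>.existsUnique ⟨x, hx1⟩
          have e : ((n : K1) : G) * ((b : K1) : G) = x := congrArg Subtype.val hnb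
          have hn1 : ((n : K1) : G) = 1 := by
            refine eq_one_of_coPi_of_piGrp hNpi n.2 ?_
            have hcomm : Commute ((n : K1) : G) ((b : K1) : G) :=
              (Subgroup.mem_centralizer_iff.1 (hC ▸ Subgroup.mem_top ((b : K1) : G)) _ n.2)
            have e2 : ((n : K1) : G) = x * ((b : K1) : G)⁻¹ := by rw [← e, mul_inv_cancel_right]
            rw [e2]
            refine coPi_mul ?_ hx ((coPi_inv _).2 (hBc _ b.2))
            rw [← e]
            exact (hcomm.mul_left (Commute.refl _)).inv_right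
          refine ⟨(b : K1), b.2, ?_⟩
          rw [← e, hn1, one_mul]
          rfl
      · obtain ⟨Kc, hKc⟩ := hsub _ hC
        refine ⟨Kc.map (Subgroup.centralizer (N : Set G)).subtype, fun x => ⟨?_, fun hx => ?_⟩⟩
        · rintro ⟨y, hy, rfl⟩
          exact (coPi_map_iff _ (Subgroup.subtype_injective _) y).2 ((hKc y).1 hy)
        · exact ⟨⟨x, hcent x hx⟩, (hKc _).2
            ((coPi_map_iff _ (Subgroup.subtype_injective _) ⟨x, hcent x hx⟩).1 hx), rfl⟩
    · obtain ⟨Kq, hKq⟩ := hquot K' hb (quotient_of_coPi h hodd K' fun x hx => ((hK' x).1 hx).2)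
      refine ⟨Kq.comap (QuotientGroup.mk' K'), fun x => ⟨fun hx p hp hd hpi => ?_,
        fun hx => (hKq _).2 (coPi_of_dvd hx (orderOf_map_dvd _ x))⟩⟩
      have hpo : ¬ p ∣ orderOf (QuotientGroup.mk' K' x) := fun hd' => (hKq _).1 hx p hp hd' hpi
      set o := orderOf (QuotientGroup.mk' K' x)
      have hxo : x ^ o ∈ K' := by
        rw [← QuotientGroup.eq_one_iff]
        show QuotientGroup.mk' K' (x ^ o) = 1
        rw [map_pow, pow_orderOf_eq_one]
      have hd2 : orderOf x ∣ o * orderOf (x ^ o) := orderOf_dvd_of_pow_eq_one (by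
        rw [pow_mul, pow_orderOf_eq_one])
      exact ((hK' _).1 hxo).2 p hp ((hp.dvd_mul.1 (hd.trans hd2)).resolve_left hpo) hpi
  · by_contra hnc
    haveI hnt : Nontrivial G := by
      rw [← not_subsingleton_iff_nontrivial]
      intro hs
      exact hnc ⟨⊤, fun x => ⟨fun _ => Subsingleton.elim (1 : G) x ▸ coPi_one,
        fun _ => Subgroup.mem_top _⟩⟩
    haveI hsimple : IsSimpleGroup G := ⟨fun N hN => by
      by_contra hc
      rw [not_or] at hc
      exact hex ⟨N, hN, hc.1, hc.2⟩⟩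
    by_cases hcomm : IsMulCommutative G
    · exact hnc ⟨{ carrier := {x | CoPi π x}
                   one_mem' := coPi_one
                   mul_mem' := fun {a b} ha hb => coPi_mul (hcomm.is_comm.comm a b) ha hb
                   inv_mem' := fun {a} ha => (coPi_inv a).2 ha }, fun x => Iff.rfl⟩
    · exact hnc ⟨⊤, fun x => ⟨fun _ p hp hpd hpπ => false_simple hcomm hS h hodd hp hpπ
        (hpd.trans (orderOf_dvd_natCard x)), fun _ => Subgroup.mem_top _⟩⟩

end Cfsg.Lib.PiOdd
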