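import Cfsg.Agent.Lib.PiOdd.Classes
import Cfsg.Agent.Lib.PiOdd.Hom
import Cfsg.Agent.Lib.Walter8.Main
import Cfsg.Agent.Lib.AllAb.False3
import Cfsg.Agent.Lib.Linear.Unipotent.Steinberg

/-!
# No prime of a group of Ree type belongs to such a `π`
-/

set_option autoImplicit false
set_option linter.unusedSectionVars false
set_option linter.style.haveILetI false

namespace Cfsg.Lib.PiOdd

open Subgroup Cfsg Cfsg.Lib Cfsg.Lib.ReeType

universe u v

namespace Ctx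

variable {G : Type u} {L : Type v} [Group G] [Group L] [Finite G] {n T : ℕ} (C : Ctx G L n T)

/-- The rows of the principal block keep the two factors apart. -/
theorem separated_of_rows {χ χ₁ χ₆ χ₂ χ₃ : IrrCharacter G} {a b c e₂ e₃ : ℤ}
    (h₁ : charDegree (χ₁ : G → ℂ) = C.dd) (h₆ : charDegree (χ₆ : G → ℂ) = C.q * C.dd)
    (he₂ : e₂ = 1 ∨ e₂ = -1) (he₃ : e₃ = 1 ∨ e₃ = -1)
    (hs : e₂ * (charDegree (χ₂ : G → ℂ) : ℤ) + e₃ * (charDegree (χ₃ : G → ℂ) : ℤ) = (C.q : ℤ) - (C.q : ℤ) ^ 2)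
    (hp : 3 * (e₂ * (charDegree (χ₂ : G → ℂ) : ℤ) - e₃ * (charDegree (χ₃ : G → ℂ) : ℤ)) ^ 2 =
      (C.q : ℤ) * ((C.q : ℤ) ^ 2 - 1) ^ 2)
    (hrel : ∀ g : G, ¬ 2 ∣ orderOf g →
      1 + (a : ℂ) * (χ₁ : G → ℂ) g + (b : ℂ) * (χ₆ : G → ℂ) g + (c : ℂ) * (χ : G → ℂ) g = 0)
    (hrel₂ : ∀ g : G, ¬ 2 ∣ orderOf g →
      (e₂ : ℂ) * (χ₂ : G → ℂ) g + (e₃ : ℂ) * (χ₃ : G → ℂ) g + (b : ℂ) * (χ₆ : G → ℂ) g +
        (c : ℂ) * (χ : G → ℂ) g = 0) :
    C.Separated := by
  classical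
  have hn := C.S.one_le
  have hvan : ∀ (ψ : IrrCharacter G) (k : ℕ) (r : ℕ), r.Prime → r ∣ C.dd →
      (2 * charDegree (ψ : G → ℂ) = (C.q - 1) * 3 ^ n * k ∨ charDegree (ψ : G → ℂ) = k) →
      k.factorization r = (C.dd).factorization r → k ≠ 0 →
      ∀ g : G, r ∣ orderOf g → (ψ : G → ℂ) g = 0 := by
    intro ψ k r hr hrd hdeg hk hk0 g hg
    haveI : Fact r.Prime := ⟨hr⟩
    obtain ⟨k1, k2, k3, k4, k5⟩ := C.dd_prime hr hrd
    have hq0 : C.q - 1 ≠ 0 := by have := C.q_mem.2; omega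
    have h3n : ¬ r ∣ 3 ^ n := fun h => k5 ((Nat.prime_dvd_prime_iff_eq hr Nat.prime_three).1 (hr.dvd_of_dvd_pow h))
    have hfdeg : (charDegree (ψ : G → ℂ)).factorization r = (C.dd).factorization r := by
      rcases hdeg with h | h
      · have h' := congrArg (fun x => x.factorization r) h
        simp only [Nat.factorization_mul two_ne_zero ψ.2.charDegree_pos.ne',
          Nat.factorization_mul (mul_ne_zero hq0 (pow_ne_zero n three_ne_zero)) hk0,
          Nat.factorization_mul hq0 (pow_ne_zero n three_ne_zero), Finsupp.add_apply,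
          Nat.factorization_eq_zero_of_not_dvd k2, Nat.factorization_eq_zero_of_not_dvd h3n,
          Nat.factorization_eq_zero_of_not_dvd (show ¬ r ∣ 2 from fun h => k4
            ((Nat.prime_dvd_prime_iff_eq hr Nat.prime_two).1 h)), zero_add] at h'
        rw [h', hk]
      · rw [h, hk]
    have hfG : (Nat.card G).factorization r = (C.dd).factorization r := by
      have hne : ¬ r ∣ C.q ^ 3 * (C.q + 1) * (C.q - 1) := by
        rw [hr.dvd_mul, hr.dvd_mul]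
        rintro ((h | h) | h)
        exacts [k1 (hr.dvd_of_dvd_pow h), k3 h, k2 h]
      rw [C.card_G_eq, Nat.factorization_mul (fun h => hne (by rw [h]; exact dvd_zero r)) (Nat.succ_ne_zero _),
        Finsupp.add_apply, Nat.factorization_eq_zero_of_not_dvd hne, zero_add]
    haveI : Fintype G := Fintype.ofFinite G
    obtain ⟨M, hM⟩ := Cfsg.Lib.Block.exists_isPModular hr
    have hcd := hfdeg.trans hfG.symm
    have hdef : Cfsg.blockDefect r (Cfsg.blockOf M (ψ : G → ℂ)) = 0 :=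
      (Cfsg.Lib.Block.blockDefect_eq_zero_iff hM (Cfsg.Lib.Block.isPBlock_blockOf ψ)).2
        ⟨ψ, Cfsg.Lib.Block.blockOf_eq_singleton_of_full hM ψ hcd.ge, hcd⟩
    refine Cfsg.Lib.Block.char_eq_zero_of_pPt_notMem hM ψ fun E hE hmem => ?_
    have hcard := Cfsg.Lib.Block.card_defectGroup hM (Cfsg.Lib.Block.isPBlock_blockOf ψ) hE
    rw [hdef, pow_zero] at hcard
    rw [Subgroup.eq_bot_of_card_eq E hcard, Subgroup.mem_bot] at hmem
    exact (Cfsg.Lib.Block.pPt_eq_one_iff g).1 hmem hg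
  -- the two degrees
  have hdd : C.dd = facA n * facB n := C.dd_eq
  obtain ⟨hA, hA7⟩ := facA_cast hn
  have hB := facB_cast n
  have hq : (C.q : ℤ) = 3 * ((3 ^ n : ℕ) : ℤ) ^ 2 := by
    show ((3 ^ (2 * n + 1) : ℕ) : ℤ) = _
    rw [q_eq]; push_cast; ring
  have h27 := C.q_mem.2
  have hq1 : ((C.q - 1 : ℕ) : ℤ) = (C.q : ℤ) - 1 := by rw [Nat.cast_sub (by omega)]; norm_num
  have hsplit : (2 * charDegree (χ₂ : G → ℂ) = (C.q - 1) * 3 ^ n * facA n ∧
      2 * charDegree (χ₃ : G → ℂ) = (C.q - 1) * 3 ^ n * facB n) ∨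
      (2 * charDegree (χ₂ : G → ℂ) = (C.q - 1) * 3 ^ n * facB n ∧
      2 * charDegree (χ₃ : G → ℂ) = (C.q - 1) * 3 ^ n * facA n) := by
    have hd2 := χ₂.2.charDegree_pos
    have hd3 := χ₃.2.charDegree_pos
    rw [hq] at hs hp
    generalize hpd : ((3 ^ n : ℕ) : ℤ) = p at hA hB hq hs hp
    have hp1 : 1 ≤ p := by rw [← hpd]; exact_mod_cast Nat.one_le_pow n 3 (by norm_num)
    obtain ⟨D, hD⟩ : ∃ D, D = e₂ * (charDegree (χ₂ : G → ℂ) : ℤ) - e₃ * (charDegree (χ₃ : G → ℂ) : ℤ) :=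
      ⟨_, rfl⟩
    rw [← hD] at hp
    have hsq : (D - p * (9 * p ^ 4 - 1)) * (D + p * (9 * p ^ 4 - 1)) = 0 :=
      mul_left_cancel₀ (show (3 : ℤ) ≠ 0 by norm_num) (by linear_combination hp)
    have hneg : 0 < (3 * p ^ 2 - 1) * p := by nlinarith
    have nA : 0 < 3 * p ^ 2 - 3 * p + 1 := by nlinarith
    have nB : 0 < 3 * p ^ 2 + 3 * p + 1 := by nlinarith
    have pA : 0 < (3 * p ^ 2 - 1) * p * (3 * p ^ 2 - 3 * p + 1) := mul_pos hneg nA
    have pB : 0 < (3 * p ^ 2 - 1) * p * (3 * p ^ 2 + 3 * p + 1) := mul_pos hneg nB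
    rcases mul_eq_zero.1 hsq with h | h
    · have e2 : 2 * (e₂ * (charDegree (χ₂ : G → ℂ) : ℤ)) = (3 * p ^ 2 - 1) * p * (3 * p ^ 2 - 3 * p + 1) := by
        linear_combination hs + h - hD
      have e3 : 2 * (e₃ * (charDegree (χ₃ : G → ℂ) : ℤ)) = -((3 * p ^ 2 - 1) * p * (3 * p ^ 2 + 3 * p + 1)) := by
        linear_combination hs - h + hD
      left
      rcases he₂ with rfl | rfl
      swap
      · exfalso; omega
      rcases he₃ with rfl | rfl
      · exfalso; omega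
      constructor <;> refine Nat.cast_injective (R := ℤ) ?_ <;> push_cast [hq1, hA, hB, hq] <;>
        push_cast at hpd <;> rw [hpd] <;> [linear_combination e2; linear_combination -e3]
    · have e2 : 2 * (e₂ * (charDegree (χ₂ : G → ℂ) : ℤ)) = -((3 * p ^ 2 - 1) * p * (3 * p ^ 2 + 3 * p + 1)) := by
        linear_combination hs + h - hD
      have e3 : 2 * (e₃ * (charDegree (χ₃ : G → ℂ) : ℤ)) = (3 * p ^ 2 - 1) * p * (3 * p ^ 2 - 3 * p + 1) := by
        linear_combination hs - h + hD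
      right
      rcases he₂ with rfl | rfl
      · exfalso; omega
      rcases he₃ with rfl | rfl
      swap
      · exfalso; omega
      constructor <;> refine Nat.cast_injective (R := ℤ) ?_ <;> push_cast [hq1, hA, hB, hq] <;>
        push_cast at hpd <;> rw [hpd] <;> [linear_combination -e2; linear_combination e3]
  intro g hg r s hr hs' hrA hsB hrg hsg
  have hrd : r ∣ C.dd := hdd ▸ hrA.mul_right _
  have hsd : s ∣ C.dd := hdd ▸ hsB.mul_left _
  have hA0 : facA n ≠ 0 := by omega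
  have hB0 : facB n ≠ 0 := by unfold facB; omega
  have hAr : (facA n).factorization r = (C.dd).factorization r := by
    rw [hdd, Nat.factorization_mul hA0 hB0, Finsupp.add_apply,
      Nat.factorization_eq_zero_of_not_dvd (n := facB n) (fun h => hr.ne_one
        (Nat.eq_one_of_dvd_coprimes (fac_coprime hn) hrA h)), add_zero]
  have hBs : (facB n).factorization s = (C.dd).factorization s := by
    rw [hdd, Nat.factorization_mul hA0 hB0, Finsupp.add_apply,
      Nat.factorization_eq_zero_of_not_dvd (n := facA n) (fun h => hs'.ne_one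
        (Nat.eq_one_of_dvd_coprimes (fac_coprime hn) h hsB)), zero_add]
  have z1 : (χ₁ : G → ℂ) g = 0 := hvan χ₁ C.dd r hr hrd (Or.inr h₁) rfl (Nat.succ_ne_zero _) g hrg
  have z6 : (χ₆ : G → ℂ) g = 0 := by
    refine hvan χ₆ (C.q * C.dd) r hr hrd (Or.inr h₆) ?_ (Nat.mul_ne_zero (by omega) (Nat.succ_ne_zero _)) g hrg
    rw [Nat.factorization_mul (by omega) (Nat.succ_ne_zero _), Finsupp.add_apply,
      Nat.factorization_eq_zero_of_not_dvd (C.dd_prime hr hrd).1, zero_add]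
  have z23 : (χ₂ : G → ℂ) g = 0 ∧ (χ₃ : G → ℂ) g = 0 := by
    rcases hsplit with ⟨d2, d3⟩ | ⟨d2, d3⟩
    · exact ⟨hvan χ₂ _ r hr hrd (Or.inl d2) hAr hA0 g hrg, hvan χ₃ _ s hs' hsd (Or.inl d3) hBs hB0 g hsg⟩
    · exact ⟨hvan χ₂ _ s hs' hsd (Or.inl d2) hBs hB0 g hsg, hvan χ₃ _ r hr hrd (Or.inl d3) hAr hA0 g hrg⟩
  have r1 := hrel g hg
  have r2 := hrel₂ g hg
  rw [z1, z6] at r1
  rw [z6, z23.1, z23.2] at r2
  exact one_ne_zero (α := ℂ) (by linear_combination r1 - r2)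

variable [IsSimpleGroup G]
include C

/-- The primes of `q² - 1` and three are excluded inside the centralizer of `t`. -/
theorem not_mem_small {π : Set ℕ} (h : HomPi π G) (hodd : ∀ p ∈ π, p ≠ 2) {p : ℕ} (hp : p.Prime)
    (hpπ : p ∈ π) : p ≠ 3 ∧ ¬ p ∣ 2 * T - 1 ∧ ¬ p ∣ T := by
  obtain ⟨hoa, h13, hmodd, hm3, h2m⟩ := ReeTwoTrans.torus_facts C.S
  have hT : ∀ r : ℕ, r.Prime → r ∈ π → ¬ r ∣ 2 * T - 1 := by
    intro r hr hrπ hd
    refine h.false_of_inverted hodd hr hrπ (x := C.S.φ C.S.D.a ^ ((2 * T - 1) / r))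
      (a := C.S.φ C.S.D.w) ?_ C.φw_ne.1 (by rw [← map_mul, C.S.D.w_sq, map_one]) ?_
    · conv_lhs => rw [← hoa]
      exact orderOf_pow_orderOf_div (by rw [hoa]; omega) (hoa.symm ▸ hd)
    · exact C.φw_inv (pow_mem C.a_mem_A _)
  refine ⟨fun h3 => ?_, hT p hp hpπ, fun hd => ?_⟩
  · subst h3
    obtain ⟨s, hs, hsd⟩ := Nat.exists_prime_and_dvd (show 2 * T - 1 ≠ 1 by omega)
    set x := C.S.φ C.S.D.a ^ ((2 * T - 1) / s) with hx
    have hxo : orderOf x = s := by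
      rw [hx]
      conv_lhs => rw [← hoa]
      exact orderOf_pow_orderOf_div (by rw [hoa]; omega) (hoa.symm ▸ hsd)
    refine hT s hs (h.mem_of_moves (H := C.S.threeSub) (fun r hr hrd => ?_) hs hxo ?_ ?_) hsd
    · rw [C.S.card_threeSub] at hrd
      exact ((Nat.prime_dvd_prime_iff_eq hr Nat.prime_three).1 (hr.dvd_of_dvd_pow hrd)) ▸ hpπ
    · rw [hx]
      refine pow_mem ?_ _
      rw [mem_normalizer_iff]
      intro y
      constructor
      · rintro ⟨u, hu, rfl⟩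
        exact ⟨C.S.D.a * u * C.S.D.a⁻¹, C.S.D.U_normal _ C.S.D.a_mem _ hu, by simp⟩
      · rintro ⟨u, hu, he⟩
        refine ⟨C.S.D.a⁻¹ * u * C.S.D.a⁻¹⁻¹, C.S.D.U_normal _ (inv_mem C.S.D.a_mem) _ hu, ?_⟩
        rw [inv_inv, map_mul, map_mul, he, map_inv]
        group
    · intro hc
      obtain ⟨u, hu, hu1⟩ := C.S.exists_ne_one_threeSub
      obtain ⟨u', hu', rfl⟩ := hu
      have hxl : x = C.S.φ (C.S.D.a ^ ((2 * T - 1) / s)) := by rw [hx, map_pow]
      have hx1 : C.S.D.a ^ ((2 * T - 1) / s) ≠ 1 := fun e => by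
        rw [hxl, e, map_one, orderOf_one] at hxo
        exact hs.ne_one hxo.symm
      have e := mem_centralizer_iff.1 hc _ (⟨u', hu', rfl⟩ : C.S.φ u' ∈ C.S.threeSub)
      rw [hxl, ← map_mul, ← map_mul] at e
      have hz := C.S.D.cent_a _ (pow_mem (mem_zpowers _) _) hx1 u' (C.S.inj e)
      have h1 : orderOf u' ∣ 2 * T - 1 := C.S.D.orderOf_a ▸ orderOf_dvd_of_mem_zpowers hz
      rcases (Nat.dvd_prime Nat.prime_three).1 (orderOf_dvd_of_pow_eq_one (C.S.D.U_cube u' hu')) with e3 | e3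
      · exact hu1 (by rw [orderOf_eq_one_iff.1 e3, map_one])
      · rw [e3] at h1; exact hm3 h1
  · refine h.false_of_inverted hodd hp hpπ (x := C.S.φ C.S.D.y ^ (T / p)) (a := C.S.φ C.S.D.i) ?_
      (fun e => ?_) C.S.ι_facts.1 (C.S.ι_facts.2.2.2 _ (pow_mem C.S.φy_mem _))
    · have h' := orderOf_pow_orderOf_div (x := C.S.φ C.S.D.y) (n := p)
        (by rw [C.S.orderOf_φy]; have := C.torus_arith.2.2.1; omega) (C.S.orderOf_φy.symm ▸ hd)
      rwa [C.S.orderOf_φy] at h'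
    · exact C.ι_out (e ▸ one_mem _)

theorem false_of_mem {π : Set ℕ} (hsep : C.Separated) (h : HomPi π G) (hodd : ∀ p ∈ π, p ≠ 2)
    {p : ℕ} (hp : p.Prime) (hpπ : p ∈ π) (hd : p ∣ Nat.card G) : False := by
  obtain ⟨h3, hm, hT⟩ := C.not_mem_small h hodd hp hpπ
  rcases C.prime_cases hp hd with e | e | e | e | e
  · exact hodd p hpπ e
  · exact h3 e
  · exact hm e
  · exact hT e
  · obtain ⟨x, a, hx, ha, hax⟩ := C.exists_real hsep hp e
    exact h.false_of_inverted hodd hp hpπ hx ha.1 ha.2 hax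

end Ctx

/-- No `π`-prime divides the order of a group of Ree type. -/
theorem false_ree {G : Type u} [Group G] [Finite G] [IsSimpleGroup G] (hna : ¬ IsMulCommutative G)
    (hab : ∀ P : Sylow 2 G, ∀ a b : P, a * b = b * a) {F : Type} [Field F] [Fintype F]
    (h6 : 6 ≤ Fintype.card F) {t : G} (ht : orderOf t = 2)
    (e : centralizer ({t} : Set G) ≃*
      Multiplicative (ZMod 2) × Matrix.ProjectiveSpecialLinearGroup (Fin 2) F)
    {π : Set ℕ} (h : HomPi π G) (hodd : ∀ p ∈ π, p ≠ 2) {p : ℕ} (hp : p.Prime) (hpπ : p ∈ π)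
    (hd : p ∣ Nat.card G) : False := by
  haveI : Fact (Nat.Prime 2) := ⟨Nat.prime_two⟩
  rcases Walter8.main_relation hab (by omega) t ht e with
    ⟨m, hm, hF, hord, -, χ, hχ, χ₁, χ₆, a, b, c, h₁, h₆,
      ⟨-, χ₂, χ₃, e₂, e₃, he₂, he₃, hs, hp', hrel₂⟩, hrel⟩ | ⟨h45, -⟩
  · have hidx : Odd (centralizer ({t} : Set G)).index := by
      obtain ⟨P, hP⟩ := (IsPGroup.of_card (n := 1) (by rw [Nat.card_zpowers, ht, pow_one]) :
        IsPGroup 2 (zpowers t)).exists_le_sylow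
      have hle : (P : Subgroup G) ≤ centralizer ({t} : Set G) := fun x hx =>
        mem_centralizer_singleton_iff.2 (congrArg Subtype.val
          (hab P ⟨x, hx⟩ ⟨t, hP (mem_zpowers t)⟩))
      rw [Nat.odd_iff]
      by_contra h'
      exact P.not_dvd_index ((Nat.dvd_of_mod_eq_zero (by omega)).trans (index_dvd_of_le hle))
    obtain ⟨T, ⟨S⟩⟩ := AllAb.exists_setup hm hF ht hidx e
    obtain ⟨H, P, hidx', hU, hPH, hHN, htH, haH, h2⟩ := ReeTwoTrans.exists_point S hna hord χ hχ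
    exact (Ctx.mk S hna hord H P hidx' hU hPH hHN htH haH h2).false_of_mem
      (Ctx.separated_of_rows _ h₁ h₆ he₂ he₃ hs hp' hrel hrel₂) h hodd hp hpπ hd
  · omega

end Cfsg.Lib.PiOdd
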