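import Cfsg.Agent.Lib.PiOdd.Hom
import Cfsg.Agent.Lib.PiHom.Reduce

/-!
# `HomPi` in terms of normalizing `π'`-elements; subgroups and isomorphisms
-/

set_option autoImplicit false
set_option linter.style.haveILetI false

namespace Cfsg.Lib.PiOdd

open Subgroup Cfsg.Lib.PiHom

universe u v

variable {π : Set ℕ} {G : Type u} [Group G] [Finite G]

/-- A `π'`-element normalizing a `π`-subgroup centralizes it. -/
theorem HomPi.coPi_centralizes (h : HomPi π G) {H : Subgroup G} (hH : PiGrp π H) {y : G}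
    (hy : CoPi π y) (hn : y ∈ normalizer (H : Set G)) : y ∈ centralizer (H : Set G) := by
  by_cases hbot : H = ⊥
  · rw [hbot, mem_centralizer_iff]
    intro z hz
    rw [mem_bot.1 hz, one_mul, mul_one]
  set C := centralizer (H : Set G)
  set N := normalizer (H : Set G) with hNdef
  haveI : (C.subgroupOf N).Normal := by
    refine ⟨fun c hc g => ?_⟩
    rw [mem_subgroupOf, mem_centralizer_iff] at hc ⊢
    intro z hz
    have hz' : (g : G)⁻¹ * z * g ∈ H := by
      simpa using (mem_normalizer_iff.1 (inv_mem g.2) z).1 hz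
    have e := hc _ hz'
    push_cast
    calc z * ((g : G) * c * (g : G)⁻¹) = (g : G) * ((g : G)⁻¹ * z * g * c) * (g : G)⁻¹ := by group
      _ = (g : G) * (c * ((g : G)⁻¹ * z * g)) * (g : G)⁻¹ := by rw [e]
      _ = (g : G) * c * (g : G)⁻¹ * z := by group
  have hpow : (⟨y, hn⟩ : N) ^ (C.relIndex N) ∈ C.subgroupOf N := by
    rw [relIndex]; exact pow_index_mem _ _
  have hcop : (C.relIndex N).Coprime (orderOf y) :=
    Nat.coprime_of_dvd fun p hp h1 h2 => hy p hp h2 (h H hbot hH p hp h1)
  obtain ⟨j, hj⟩ := exists_pow_eq_self_of_coprime hcop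
  rw [← hj]
  exact pow_mem hpow j

theorem homPi_of_centralizes
    (hc : ∀ (H : Subgroup G) (y : G), PiGrp π H → y ∈ normalizer (H : Set G) → CoPi π y →
      y ∈ centralizer (H : Set G)) : HomPi π G :=
  fun H _ hH _ hp hd => hom_of_centralizes (fun y hy hyc => hc H y hH hy hyc) hp hd

theorem HomPi.of_injective (h : HomPi π G) {X : Type v} [Group X] [Finite X] (f : X →* G)
    (hf : Function.Injective f) : HomPi π X := by
  refine homPi_of_centralizes fun H y hH hy hyc => ?_
  have hy' : f y ∈ normalizer ((H.map f : Subgroup G) : Set G) := by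
    have key : ∀ z : X, z ∈ normalizer (H : Set X) → ∀ a ∈ H.map f, f z * a * (f z)⁻¹ ∈ H.map f := by
      rintro z hz _ ⟨b, hb, rfl⟩
      exact ⟨z * b * z⁻¹, (mem_normalizer_iff.1 hz b).1 hb, by simp⟩
    rw [mem_normalizer_iff]
    refine fun a => ⟨key y hy a, fun ha => ?_⟩
    have := key y⁻¹ (inv_mem hy) _ ha
    simpa [mul_assoc] using this
  have hc := h.coPi_centralizes (piGrp_map f hH) ((coPi_map_iff f hf y).2 hyc) hy'
  rw [mem_centralizer_iff] at hc ⊢
  intro a ha
  exact hf (by rw [map_mul, map_mul]; exact hc _ ⟨a, ha, rfl⟩)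

end Cfsg.Lib.PiOdd
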