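import Cfsg.Agent.Lib.PiOdd.Ree
import Cfsg.Agent.Lib.PiOdd.Transfer
import Cfsg.Agent.Lib.GW.Main
import Cfsg.Agent.Lib.SimpleAbTwo.Cases
import Cfsg.Agent.Lib.Walter3.CentClause
import Cfsg.Agent.Lib.MinNonCA.PSL
import Cfsg.Agent.Lib.ClassSizePSL.Values
import Cfsg.Agent.Lib.Small.SimpleOrder
import Cfsg.Agent.S0252
import Cfsg.Agent.S0253

/-!
# Simple groups: no prime of such a `π` divides the order
-/

set_option autoImplicit false
set_option linter.style.haveILetI false
set_option linter.unusedSectionVars false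

namespace Cfsg.Lib.PiOdd

open Subgroup Cfsg Matrix Cfsg.Lib

universe u v

/-- Sylow two-subgroups are abelian, or cyclic and dihedral. -/
def SylHyp (G : Type u) [Group G] : Prop :=
  (∀ S : Sylow 2 G, IsMulCommutative ↥(S : Subgroup G)) ∨ GW.TwoCycDih G

variable {π : Set ℕ}

section PSL

variable {F : Type} [Field F] [Fintype F]

local notation "PSL2" => ProjectiveSpecialLinearGroup (Fin 2) F

theorem false_psl_inner (h4 : 4 ≤ Fintype.card F) (h : HomPi π PSL2) (hodd : ∀ p ∈ π, p ≠ 2)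
    {p : ℕ} (hp : p.Prime) (hpπ : p ∈ π) (hd : p ∣ Nat.card PSL2) : False := by
  classical
  haveI := Fintype.ofFinite PSL2
  obtain ⟨r, hr, hrc, -⟩ := Cfsg.Lib.Dickson.exists_char (F := F)
  haveI := Fact.mk hr
  have hreal : ∀ s : ℕ, s.Prime → s ≠ r → s ∈ π → ∀ x : PSL2, orderOf x = s → False := by
    intro s hs hsr hsπ x hx
    obtain ⟨g, rfl⟩ := QuotientGroup.mk_surjective x
    obtain ⟨w, hw2, hw⟩ := Cfsg.Lib.Dickson.exists_inverting r g (fun e => by
      have h1 := orderOf_dvd_of_pow_eq_one e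
      rw [hx] at h1
      exact hsr ((Nat.prime_dvd_prime_iff_eq hs hr).1 h1))
    refine h.false_of_inverted hodd hs hsπ hx (fun e => hodd s hsπ ?_) hw2 hw
    rw [e, one_mul, inv_one, mul_one, eq_inv_iff_mul_eq_one, ← sq] at hw
    have h1 := orderOf_dvd_of_pow_eq_one hw
    rw [hx] at h1
    exact (Nat.prime_dvd_prime_iff_eq hs Nat.prime_two).1 h1
  by_cases hpr : p = r
  swap
  · obtain ⟨x, hx⟩ := exists_prime_orderOf_dvd_card' (G := PSL2) p (hp := ⟨hp⟩) hd
    exact hreal p hp hpr hpπ x hx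
  subst hpr
  set P := Cfsg.Lib.Dickson.stdSylow (F := F) p with hP
  set N := normalizer ((P : Subgroup PSL2) : Set PSL2) with hN
  have hne : (P : Subgroup PSL2).relIndex N ≠ 1 := fun e =>
    MinNonCA.normalizer_sylow_ne (F := F) (by omega) p P (relIndex_eq_one.1 e)
  obtain ⟨s, hs, hsd⟩ := Nat.exists_prime_and_dvd hne
  have hsp : s ≠ p := fun e => by
    have h1 := hsd.trans (relIndex_dvd_index_of_le le_normalizer)
    rw [e] at h1
    exact P.not_dvd_index h1
  obtain ⟨⟨x, hxN⟩, hx⟩ := exists_prime_orderOf_dvd_card' (G := N) s (hp := ⟨hs⟩)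
    (hsd.trans (relIndex_dvd_card _ _))
  rw [Subgroup.orderOf_mk] at hx
  refine hreal s hs hsp (h.mem_of_moves (H := (P : Subgroup PSL2)) (fun q hq hqd => ?_) hs hx hxN ?_) x hx
  · obtain ⟨k, hk⟩ := IsPGroup.iff_card.1 P.isPGroup'
    rw [hk] at hqd
    exact ((Nat.prime_dvd_prime_iff_eq hq hp).1 (hq.dvd_of_dvd_pow hqd)) ▸ hpπ
  · intro hC
    have hcard := Cfsg.Lib.Dickson.card_sylow_psl (F := F) p P
    obtain ⟨f, -, hF⟩ := FiniteField.card F p
    haveI : Nontrivial (P : Subgroup PSL2) := Finite.one_lt_card_iff_nontrivial.1 (by omega)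
    obtain ⟨⟨u, hu⟩, hu1⟩ := exists_ne (1 : (P : Subgroup PSL2))
    have hu1' : u ≠ 1 := fun e => hu1 (Subtype.ext e)
    obtain ⟨k, hk⟩ := IsPGroup.iff_orderOf.1 P.isPGroup' ⟨u, hu⟩
    rw [Subgroup.orderOf_mk] at hk
    have hku : p ∣ orderOf u := by
      rw [hk]
      exact dvd_pow_self p fun e => hu1' (orderOf_eq_one_iff.1 (by rw [hk, e, pow_zero]))
    have hc := ClassSizePSL.card_centralizer_of_dvd_char p hu1' hku
    have hmem : x ∈ centralizer ({u} : Set PSL2) :=
      mem_centralizer_singleton_iff.2 ((mem_centralizer_iff.1 hC u hu).symm)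
    have h1 := Subgroup.orderOf_dvd_natCard _ hmem
    rw [hc, hx, hF] at h1
    exact hsp ((Nat.prime_dvd_prime_iff_eq hs hp).1 (hs.dvd_of_dvd_pow h1))

theorem false_psl (h4 : 4 ≤ Fintype.card F) {G : Type u} [Group G] [Finite G] (h : HomPi π G)
    (hodd : ∀ p ∈ π, p ≠ 2) (e : G ≃* PSL2) {p : ℕ} (hp : p.Prime) (hpπ : p ∈ π)
    (hd : p ∣ Nat.card G) : False :=
  false_psl_inner h4 (h.of_injective e.symm.toMonoidHom e.symm.injective) hodd hp hpπ
    (Nat.card_congr e.toEquiv ▸ hd)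

end PSL

section Alt

open Equiv

/-- Three is real in `A₅`. -/
theorem altFive_three : ∃ x a : alternatingGroup (Fin 5),
    orderOf x = 3 ∧ a ≠ 1 ∧ a * a = 1 ∧ a * x * a⁻¹ = x⁻¹ :=
  ⟨⟨swap 0 1 * swap 1 2, Equiv.Perm.mem_alternatingGroup.2 (by decide +kernel)⟩, ⟨swap 0 1 * swap 3 4, Equiv.Perm.mem_alternatingGroup.2 (by decide +kernel)⟩,
    orderOf_eq_prime (by decide +kernel) (by decide +kernel), by decide +kernel, by decide +kernel, by decide +kernel⟩

/-- Five is real in `A₅`. -/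
theorem altFive_five : ∃ x a : alternatingGroup (Fin 5),
    orderOf x = 5 ∧ a ≠ 1 ∧ a * a = 1 ∧ a * x * a⁻¹ = x⁻¹ :=
  haveI : Fact (Nat.Prime 5) := ⟨by norm_num⟩
  ⟨⟨swap 0 1 * swap 1 2 * swap 2 3 * swap 3 4, Equiv.Perm.mem_alternatingGroup.2 (by decide +kernel)⟩, ⟨swap 1 4 * swap 2 3, Equiv.Perm.mem_alternatingGroup.2 (by decide +kernel)⟩,
    orderOf_eq_prime (by decide +kernel) (by decide +kernel), by decide +kernel, by decide +kernel, by decide +kernel⟩

theorem false_of_altFive {G : Type u} [Group G] [Finite G] (h : HomPi π G) (hodd : ∀ p ∈ π, p ≠ 2)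
    (f : alternatingGroup (Fin 5) →* G) (hf : Function.Injective f) {p : ℕ} (hp : p.Prime)
    (hpπ : p ∈ π) (h35 : p = 3 ∨ p = 5) : False := by
  obtain ⟨x, a, hx, ha, ha2, hax⟩ : ∃ x a : alternatingGroup (Fin 5),
      orderOf x = p ∧ a ≠ 1 ∧ a * a = 1 ∧ a * x * a⁻¹ = x⁻¹ := by
    rcases h35 with rfl | rfl
    exacts [altFive_three, altFive_five]
  exact (h.of_injective f hf).false_of_inverted hodd hp hpπ hx ha ha2 hax

theorem false_altSeven_inner (h : HomPi π (alternatingGroup (Fin 7))) (hodd : ∀ p ∈ π, p ≠ 2)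
    {p : ℕ} (hp : p.Prime) (hpπ : p ∈ π) (hd : p ∣ Nat.card (alternatingGroup (Fin 7))) : False := by
  haveI : Fact (Nat.Prime 5) := ⟨by norm_num⟩
  haveI : Fact (Nat.Prime 7) := ⟨by norm_num⟩
  have h3 : 3 ∈ π → False := fun h3 =>
    h.false_of_inverted hodd Nat.prime_three h3
      (x := ⟨swap 0 1 * swap 1 2, Equiv.Perm.mem_alternatingGroup.2 (by decide +kernel)⟩) (a := ⟨swap 0 1 * swap 3 4, Equiv.Perm.mem_alternatingGroup.2 (by decide +kernel)⟩)
      (orderOf_eq_prime (by decide +kernel) (by decide +kernel)) (by decide +kernel) (by decide +kernel) (by decide +kernel)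
  have h5 : 5 ∈ π → False := fun h5 =>
    h.false_of_inverted hodd (by norm_num) h5
      (x := ⟨swap 0 1 * swap 1 2 * swap 2 3 * swap 3 4, Equiv.Perm.mem_alternatingGroup.2 (by decide +kernel)⟩)
      (a := ⟨swap 1 4 * swap 2 3, Equiv.Perm.mem_alternatingGroup.2 (by decide +kernel)⟩)
      (orderOf_eq_prime (by decide +kernel) (by decide +kernel)) (by decide +kernel) (by decide +kernel) (by decide +kernel)
  have h7 : 7 ∈ π → False := fun h7 => by
    let x : alternatingGroup (Fin 7) :=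
      ⟨swap 0 1 * swap 1 2 * swap 2 3 * swap 3 4 * swap 4 5 * swap 5 6, Equiv.Perm.mem_alternatingGroup.2 (by decide +kernel)⟩
    let y : alternatingGroup (Fin 7) :=
      ⟨swap 1 2 * swap 2 4 * (swap 3 6 * swap 6 5), Equiv.Perm.mem_alternatingGroup.2 (by decide +kernel)⟩
    have hx : orderOf x = 7 := orderOf_eq_prime (by decide +kernel) (by decide +kernel)
    have hy : orderOf y = 3 := orderOf_eq_prime (by decide +kernel) (by decide +kernel)
    have hyx : y * x * y⁻¹ = x ^ 2 := by decide +kernel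
    have hyx' : y⁻¹ * x * y = x ^ 4 := by decide +kernel
    refine h3 (h.mem_of_moves (H := zpowers x) (fun q hq hqd => ?_) Nat.prime_three hy ?_ ?_)
    · rw [Nat.card_zpowers, hx] at hqd
      exact ((Nat.prime_dvd_prime_iff_eq hq (by norm_num)).1 hqd) ▸ h7
    · rw [mem_normalizer_iff]
      intro z
      constructor
      · intro hz
        obtain ⟨k, rfl⟩ := mem_zpowers_iff.1 hz
        rw [← conj_zpow, hyx]
        exact zpow_mem (pow_mem (mem_zpowers x) 2) k
      · intro hz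
        obtain ⟨k, hk⟩ := mem_zpowers_iff.1 hz
        have e : z = y⁻¹ * x ^ k * (y⁻¹)⁻¹ := by rw [hk]; group
        rw [e, ← conj_zpow, inv_inv, hyx']
        exact zpow_mem (pow_mem (mem_zpowers x) 4) k
    · intro hc
      have e : x * y = y * x := mem_centralizer_iff.1 hc x (mem_zpowers x)
      exact absurd e (by decide +kernel)
  rw [nat_card_alternatingGroup, Nat.card_eq_fintype_card, Fintype.card_fin,
    show (7 : ℕ).factorial / 2 = 2 ^ 3 * 3 ^ 2 * 5 * 7 by decide] at hd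
  rcases hp.dvd_mul.1 hd with hd | hd
  swap
  · exact h7 ((Nat.prime_dvd_prime_iff_eq hp (by norm_num)).1 hd ▸ hpπ)
  rcases hp.dvd_mul.1 hd with hd | hd
  swap
  · exact h5 ((Nat.prime_dvd_prime_iff_eq hp (by norm_num)).1 hd ▸ hpπ)
  rcases hp.dvd_mul.1 hd with hd | hd
  · exact hodd p hpπ ((Nat.prime_dvd_prime_iff_eq hp Nat.prime_two).1 (hp.dvd_of_dvd_pow hd))
  · exact h3 ((Nat.prime_dvd_prime_iff_eq hp Nat.prime_three).1 (hp.dvd_of_dvd_pow hd) ▸ hpπ)

end Alt

variable {G : Type u} [Group G] [Finite G] [IsSimpleGroup G]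

/-- Janko's group: seven, eleven and nineteen are moved by smaller primes. -/
theorem false_janko (hna : ¬ IsMulCommutative G) (hJ : IsJ1 G) (h : HomPi π G)
    (hodd : ∀ p ∈ π, p ≠ 2) (hA : ∀ p : ℕ, p.Prime → p ∈ π → p = 3 ∨ p = 5 → False)
    {p : ℕ} (hp : p.Prime) (hpπ : p ∈ π) (hd : p ∣ Nat.card G) : False := by
  have hcases : ∀ s : ℕ, s.Prime → s ∈ π → s ∣ Nat.card G → s = 7 ∨ s = 11 ∨ s = 19 := by
    intro s hs hsπ hsd
    rw [hJ.2, show 175560 = 2 ^ 3 * 3 * 5 * 7 * 11 * 19 by norm_num] at hsd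
    simp only [hs.dvd_mul, Nat.prime_dvd_prime_iff_eq hs Nat.prime_three,
      Nat.prime_dvd_prime_iff_eq hs (show Nat.Prime 5 by norm_num),
      Nat.prime_dvd_prime_iff_eq hs (show Nat.Prime 7 by norm_num),
      Nat.prime_dvd_prime_iff_eq hs (show Nat.Prime 11 by norm_num),
      Nat.prime_dvd_prime_iff_eq hs (show Nat.Prime 19 by norm_num)] at hsd
    rcases hsd with ((((e | e) | e) | e) | e) | e
    · exact absurd ((Nat.prime_dvd_prime_iff_eq hs Nat.prime_two).1 (hs.dvd_of_dvd_pow e)) (hodd s hsπ)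
    · exact (hA s hs hsπ (Or.inl e)).elim
    · exact (hA s hs hsπ (Or.inr e)).elim
    · exact Or.inl e
    · exact Or.inr (Or.inl e)
    · exact Or.inr (Or.inr e)
  haveI := Fact.mk hp
  obtain ⟨P⟩ : Nonempty (Sylow p G) := inferInstance
  have hf : (Nat.card G).factorization p = 1 := by
    rw [hJ.2]
    have key : ∀ m : ℕ, 175560 = p * m → ¬ p ∣ m → (175560 : ℕ).factorization p = 1 := by
      intro m e hm
      rw [e, Nat.factorization_mul hp.ne_zero (fun e' => by rw [e', mul_zero] at e; omega),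
        Finsupp.add_apply, hp.factorization_self, Nat.factorization_eq_zero_of_not_dvd hm]
    rcases hcases p hp hpπ hd with rfl | rfl | rfl
    · exact key 25080 (by norm_num) (by norm_num)
    · exact key 15960 (by norm_num) (by norm_num)
    · exact key 9240 (by norm_num) (by norm_num)
  have hPc : Nat.card (P : Subgroup G) = p := by rw [P.card_eq_multiplicity, hf, pow_one]
  haveI : IsCyclic (P : Subgroup G) := isCyclic_of_prime_card hPc
  have hnc : ¬ IsCyclic G := fun hc => hna ⟨⟨by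
    letI := hc.commGroup; exact mul_comm⟩⟩
  have hnle := Small.not_normalizer_le_centralizer hnc P
    (fun e => by rw [e, card_bot] at hPc; exact hp.ne_one hPc.symm)
  obtain ⟨s, hs, hsd⟩ := Nat.exists_prime_and_dvd
    (n := (centralizer ((P : Subgroup G) : Set G)).relIndex (normalizer ((P : Subgroup G) : Set G)))
    (fun e => hnle (relIndex_eq_one.1 e))
  have hsπ : s ∈ π := h _ (fun e => by rw [e, card_bot] at hPc; exact hp.ne_one hPc.symm)
    (fun q hq hqd => by
      rw [hPc] at hqd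
      exact ((Nat.prime_dvd_prime_iff_eq hq hp).1 hqd) ▸ hpπ) s hs hsd
  have hs1 : s ∣ p - 1 := by
    have e : (centralizer ((P : Subgroup G) : Set G)).relIndex
        (normalizer ((P : Subgroup G) : Set G)) ∣ (Nat.card (P : Subgroup G)).totient := by
      rw [← IsCyclic.card_mulAut (P : Subgroup G), relIndex,
        ← (P : Subgroup G).normalizerMonoidHom_ker, index_ker]
      exact card_subgroup_dvd_card _
    rw [hPc, Nat.totient_prime hp] at e
    exact hsd.trans e
  have hsG : s ∣ Nat.card G :=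
    hsd.trans ((relIndex_dvd_card _ _).trans (card_subgroup_dvd_card _))
  rcases hcases p hp hpπ hd with rfl | rfl | rfl <;>
    rcases hcases s hs hsπ hsG with rfl | rfl | rfl <;> norm_num at hs1

/-- No prime of `π` divides the order of a simple group with these hypotheses. -/
theorem false_simple (hna : ¬ IsMulCommutative G) (hS : SylHyp G) (h : HomPi π G)
    (hodd : ∀ p ∈ π, p ≠ 2) {p : ℕ} (hp : p.Prime) (hpπ : p ∈ π) (hd : p ∣ Nat.card G) : False := by
  haveI : Fact (Nat.Prime 2) := ⟨Nat.prime_two⟩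
  rcases hS with hab | hD
  swap
  · rcases GW.simpleGW G hna
      (GW.sylowDihedral_of_not_solvable hD (GW.not_isSolvable_of_simple hna)) with
      ⟨F, i, j, ho, h3, ⟨e⟩⟩ | ⟨⟨e⟩⟩
    · exact false_psl (by omega) h hodd e hp hpπ hd
    · exact false_altSeven_inner (h.of_injective e.symm.toMonoidHom e.symm.injective) hodd hp hpπ
        (Nat.card_congr e.toEquiv ▸ hd)
  obtain ⟨S⟩ : Nonempty (Sylow 2 G) := inferInstance
  rcases SimpleAbTwo.cases hna S (hab S) (Walter3.centClause G hna) with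
    ⟨F, i, j, hq, ⟨e⟩⟩ | ⟨t, F, i, j, ht, h3, -, ⟨e⟩, hord⟩
  · refine false_psl ?_ h hodd e hp hpπ hd
    rcases hq with ⟨a, ha, hF⟩ | ⟨-, h5⟩
    · rw [hF]; exact Nat.pow_le_pow_right two_pos ha
    · omega
  rcases hord with ⟨m, hm, hF, -⟩ | ⟨h45, hJ⟩
  · refine false_ree hna (fun P a b => (hab P).is_comm.comm a b) ?_ ht e h hodd hp hpπ hd
    rw [hF]
    calc 6 ≤ 3 ^ 3 := by norm_num
      _ ≤ 3 ^ (2 * m + 1) := Nat.pow_le_pow_right (by norm_num) (by omega)
  · obtain ⟨ψ⟩ : Nonempty (ProjectiveSpecialLinearGroup (Fin 2) F ≃* alternatingGroup (Fin 5)) :=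
      h45.elim Cfsg.Agent.S0252.result Cfsg.Agent.S0253.result
    let f : alternatingGroup (Fin 5) →* G := (centralizer ({t} : Set G)).subtype.comp
      (e.symm.toMonoidHom.comp ((MonoidHom.inr _ _).comp ψ.symm.toMonoidHom))
    have hf : Function.Injective f := fun a b hab' => by
      have := e.symm.injective (Subtype.ext hab')
      exact ψ.symm.injective (congrArg Prod.snd this)
    exact false_janko hna hJ h hodd (fun q hq hqπ h35 => false_of_altFive h hodd f hf hq hqπ h35)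
      hp hpπ hd

end Cfsg.Lib.PiOdd
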