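import Cfsg.Agent.Lib.PiOdd.Fix
import Cfsg.Agent.Lib.Linear.Pronormal.PSLTwo
import Mathlib.Data.ZMod.Basic
import Mathlib.FieldTheory.Finite.Basic

/-!
# Elements of the split torus fix exactly two points

The normalizer of a subgroup of odd prime order of the two-point stabilizer is doubly transitive on
its fixed points, `3ⁱ + 1` of them; the orders allow only `i = 0`.
-/

set_option autoImplicit false
set_option linter.unusedSectionVars false
set_option linter.style.haveILetI false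

namespace Cfsg.Lib.PiOdd

open Subgroup Cfsg Cfsg.Lib.ReeType MulAction

universe u v

/-- `3ⁱ + 1` with even `i > 0` does not divide `(3^3e + 1)(3^e - 1)` for odd `e`. -/
theorem not_dvd_even {i e : ℕ} (hi : Even i) (hi0 : i ≠ 0) (he : Odd e) :
    ¬ 3 ^ i + 1 ∣ (3 ^ (3 * e) + 1) * (3 ^ e - 1) := by
  intro hd
  obtain ⟨j, rfl⟩ := hi
  have h9 : (3 : ℕ) ^ (j + j) = 9 ^ j := by rw [← two_mul, pow_mul]; norm_num
  have h9' : 9 ≤ 9 ^ j := Nat.le_self_pow (by omega) 9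
  have hm : 9 ^ j % 8 = 1 := by rw [Nat.pow_mod]; norm_num
  obtain ⟨h, hh⟩ : ∃ h, 9 ^ j + 1 = 2 * h := ⟨(9 ^ j + 1) / 2, by omega⟩
  obtain ⟨r, hr, hrh⟩ := Nat.exists_prime_and_dvd (show h ≠ 1 by omega)
  haveI : Fact r.Prime := ⟨hr⟩
  have hrk : r ∣ 3 ^ (j + j) + 1 := h9 ▸ hh ▸ hrh.mul_left 2
  have hr2 : r ≠ 2 := by
    rintro rfl
    omega
  have h3 : ((3 : ZMod r)) ^ (j + j) = -1 := by
    have := (ZMod.natCast_eq_zero_iff _ _).2 hrk
    push_cast at this
    linear_combination this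
  have h6 : (3 : ZMod r) ^ (6 * e) = 1 := by
    rcases (Nat.Prime.dvd_mul hr).1 (hrk.trans hd) with hv | hv
    · have := (ZMod.natCast_eq_zero_iff _ _).2 hv
      push_cast at this
      rw [show 6 * e = 2 * (3 * e) by ring, pow_mul', show (3 : ZMod r) ^ (3 * e) = -1 by linear_combination this]
      ring
    · have := (ZMod.natCast_eq_zero_iff _ _).2 hv
      rw [Nat.cast_sub (Nat.one_le_pow _ _ (by norm_num))] at this
      push_cast at this
      rw [mul_comm, pow_mul, show (3 : ZMod r) ^ e = 1 by linear_combination this, one_pow]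
  have h4 : (3 : ZMod r) ^ (2 * (j + j)) = 1 := by rw [pow_mul', h3]; ring
  have hg : (3 : ZMod r) ^ Nat.gcd (2 * (j + j)) (6 * e) = 1 := pow_gcd_eq_one.2 ⟨h4, h6⟩
  have hdvd : Nat.gcd (2 * (j + j)) (6 * e) ∣ j + j := by
    have h2 : Nat.gcd (2 * (j + j)) (6 * e) = 2 * Nat.gcd (j + j) (3 * e) := by
      rw [show 6 * e = 2 * (3 * e) by ring, Nat.gcd_mul_left]
    rw [h2]
    refine Nat.Coprime.mul_dvd_of_dvd_of_dvd ?_ ⟨j, by ring⟩ (Nat.gcd_dvd_left _ _)
    refine Nat.coprime_two_left.2 ?_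
    exact Odd.of_dvd_nat ((by decide : Odd 3).mul he) (Nat.gcd_dvd_right _ _)
  obtain ⟨d, hd'⟩ := hdvd
  rw [hd', pow_mul, hg, one_pow] at h3
  have : ((2 : ℕ) : ZMod r) = 0 := by push_cast; linear_combination h3
  exact hr2 ((Nat.prime_dvd_prime_iff_eq hr Nat.prime_two).1 ((ZMod.natCast_eq_zero_iff _ _).1 this))

namespace Ctx

variable {G : Type u} {L : Type v} [Group G] [Group L] [Finite G] {n T : ℕ} [IsSimpleGroup G]
  (C : Ctx G L n T)
include C

/-- An element of the split torus commutes with no two commuting involutions. -/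
theorem not_two_invol {s : ℕ} (hs : s.Prime) (hd : s ∣ 2 * T - 1) {x u₁ u₂ : G} (hx : orderOf x = s)
    (h₁ : IsInvol u₁) (h₂ : IsInvol u₂) (hne : u₁ ≠ u₂) (hc : u₁ * u₂ = u₂ * u₁)
    (hx₁ : x * u₁ = u₁ * x) (hx₂ : x * u₂ = u₂ * x) : False := by
  obtain ⟨-, -, hodd, -, -⟩ := ReeTwoTrans.torus_facts C.S
  have hs2 : s ≠ 2 := by rintro rfl; obtain ⟨a, ha⟩ := hd; rw [Nat.odd_iff] at hodd; omega
  obtain ⟨g, hg⟩ := C.S.exists_conj_t C.hna h₁.2 h₁.1
  -- move `u₁` to `t`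
  obtain ⟨v, hv⟩ : ∃ v, v = g⁻¹ * u₂ * g := ⟨_, rfl⟩
  obtain ⟨y, hy⟩ : ∃ y, y = g⁻¹ * x * g := ⟨_, rfl⟩
  have hvI : IsInvol v := by
    have := h₂.conj g⁻¹
    rw [inv_inv] at this
    rw [hv]
    exact this
  have hvt : v * C.S.t = C.S.t * v := by
    have h : g⁻¹ * (u₁ * u₂) * g = g⁻¹ * (u₂ * u₁) * g := by rw [hc]
    rw [← hg] at h
    rw [hv]
    calc g⁻¹ * u₂ * g * C.S.t = g⁻¹ * (u₂ * (g * C.S.t * g⁻¹)) * g := by group
      _ = g⁻¹ * (g * C.S.t * g⁻¹ * u₂) * g := h.symm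
      _ = C.S.t * (g⁻¹ * u₂ * g) := by group
  have hyt : y * C.S.t = C.S.t * y := by
    have h : g⁻¹ * (x * u₁) * g = g⁻¹ * (u₁ * x) * g := by rw [hx₁]
    rw [← hg] at h
    rw [hy]
    calc g⁻¹ * x * g * C.S.t = g⁻¹ * (x * (g * C.S.t * g⁻¹)) * g := by group
      _ = g⁻¹ * (g * C.S.t * g⁻¹ * x) * g := h
      _ = C.S.t * (g⁻¹ * x * g) := by group
  have hyv : y * v = v * y := by
    rw [hy, hv, show g⁻¹ * x * g * (g⁻¹ * u₂ * g) = g⁻¹ * (x * u₂) * g by group, hx₂]; group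
  have hvne : v ≠ C.S.t := fun h => hne (by
    rw [← hg, ← h, hv]; group)
  have hyo : orderOf y = s := by
    rw [hy, show g⁻¹ * x * g = MulAut.conj g⁻¹ x by simp, MulEquiv.orderOf_eq, hx]
  obtain ⟨l, hl⟩ : ∃ l, y = C.S.φ l := by
    obtain ⟨l, hl | hl⟩ := C.S.cent y hyt
    · exact ⟨l, hl⟩
    · exfalso
      have h := pow_orderOf_eq_one y
      obtain ⟨k, hk⟩ := hs.odd_of_ne_two hs2
      rw [hyo, hl, (show Commute C.S.t (C.S.φ l) from C.S.comm l).mul_pow, hk, pow_succ C.S.t, pow_mul,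
        sq C.S.t, C.S.t_sq, one_pow, one_mul, ← map_pow] at h
      exact C.S.not_mem _ (eq_inv_of_mul_eq_one_left (a := C.S.t) h ▸ (map_inv C.S.φ _))
  obtain ⟨l', hl'2, hl'⟩ := C.S.involution_cent hvt hvI.2
  have hl'1 : l' ≠ 1 := by
    rintro rfl
    rcases hl' with h | h
    · exact hvI.1 (by rw [h, map_one])
    · exact hvne (by rw [h, map_one, mul_one])
  have hll : l * l' = l' * l := by
    refine C.S.inj ?_
    rcases hl' with h | h
    · rw [map_mul, map_mul, ← hl, ← h, hyv]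
    · rw [hl, h] at hyv
      rw [map_mul, map_mul]
      refine mul_left_cancel (a := C.S.t) ?_
      rw [← mul_assoc, C.S.comm, mul_assoc, hyv, ← mul_assoc]
  obtain ⟨m, hm⟩ := C.S.D.involutions_conj l' hl'2 hl'1
  obtain ⟨l₁, hl₁⟩ : ∃ l₁, l₁ = m⁻¹ * l * m := ⟨_, rfl⟩
  have hl₁z : l₁ * C.S.D.z = C.S.D.z * l₁ := by
    have h : m⁻¹ * (l * l') * m = m⁻¹ * (l' * l) * m := by rw [hll]
    rw [← hm] at h
    rw [hl₁]
    calc m⁻¹ * l * m * C.S.D.z = m⁻¹ * (l * (m * C.S.D.z * m⁻¹)) * m := by group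
      _ = m⁻¹ * (m * C.S.D.z * m⁻¹ * l) * m := h
      _ = C.S.D.z * (m⁻¹ * l * m) := by group
  have hl₁o : orderOf l₁ = s := by
    rw [hl₁, show m⁻¹ * l * m = MulAut.conj m⁻¹ l by simp, MulEquiv.orderOf_eq, ← hyo, hl,
      orderOf_injective C.S.φ C.S.inj]
  obtain ⟨σ, hσ, hcase⟩ := C.S.D.cent_z l₁ hl₁z
  have hsq : l₁ * l₁ ∈ zpowers C.S.D.y := by
    have hz : σ * C.S.D.z = C.S.D.z * σ := by
      obtain ⟨k, rfl⟩ := mem_zpowers_iff.1 hσ
      exact ((show Commute C.S.D.y C.S.D.z from C.S.D.y_z).zpow_left k).eq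
    have hi : C.S.D.i * σ * C.S.D.i⁻¹ = σ⁻¹ := by
      obtain ⟨k, rfl⟩ := mem_zpowers_iff.1 hσ
      rw [← conj_zpow, C.S.D.i_y, inv_zpow]
    have hii : C.S.D.i⁻¹ = C.S.D.i := inv_eq_of_mul_eq_one_right C.S.D.i_sq
    rw [hii] at hi
    have hsi : σ * C.S.D.i * (σ * C.S.D.i) = 1 := by
      rw [mul_assoc, ← mul_assoc C.S.D.i, hi, mul_inv_cancel]
    rcases hcase with e | e | e | e
    · rw [e]; exact mul_mem hσ hσ
    · rw [e, mul_assoc, ← mul_assoc C.S.D.z, ← hz, mul_assoc σ C.S.D.z, C.S.D.z_sq, mul_one]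
      exact mul_mem hσ hσ
    · rw [e, hsi]; exact one_mem _
    · rw [e, hz, mul_assoc C.S.D.z σ, mul_assoc C.S.D.z, ← mul_assoc (σ * C.S.D.i) C.S.D.z,
        mul_assoc σ C.S.D.i C.S.D.z, C.S.D.i_z, ← mul_assoc σ, hz, mul_assoc C.S.D.z σ,
        mul_assoc C.S.D.z (σ * C.S.D.i), hsi, mul_one, C.S.D.z_sq]
      exact one_mem _
  have hmem : l₁ ∈ zpowers C.S.D.y := by
    have h := pow_orderOf_eq_one l₁
    obtain ⟨k, hk⟩ := hs.odd_of_ne_two hs2
    rw [hl₁o, hk, pow_succ, pow_mul, sq] at h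
    rw [eq_inv_of_mul_eq_one_right h]
    exact inv_mem (pow_mem hsq k)
  have h1 : s ∣ T := C.S.D.orderOf_y ▸ hl₁o ▸ orderOf_dvd_of_mem_zpowers hmem
  have h2 := C.S.q_facts.2.2.2.1
  have h3 := Nat.le_of_dvd one_pos ((Nat.dvd_add_right hd).1 (show s ∣ (2 * T - 1) + 1 by
    rw [Nat.sub_add_cancel (by omega)]; exact h1.mul_left 2))
  have := hs.two_le
  omega

/-- The elements of odd prime order of the base torus fix the two base points only. -/
theorem base_fix {s : ℕ} (hs : s.Prime) (hd : s ∣ 2 * T - 1) {x : G} (hxA : x ∈ C.A)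
    (hx : orderOf x = s) {γ : G ⧸ C.H} (hγ : x • γ = γ) : γ = C.o ∨ γ = C.o' := by
  classical
  haveI : Fact (Nat.Prime 3) := ⟨Nat.prime_three⟩
  haveI : Fact (Nat.Prime 2) := ⟨Nat.prime_two⟩
  haveI := Fintype.ofFinite (G ⧸ C.H)
  have hAc : IsMulCommutative C.A := IsCyclic.isMulCommutative
  set R := zpowers x with hR
  set N := normalizer (R : Set G) with hN
  have hfixR : ∀ y ∈ R, ∀ δ : G ⧸ C.H, x • δ = δ → y • δ = δ := by
    intro y hy δ hδ
    exact (zpowers_le (H := stabilizer G δ)).2 (show x ∈ stabilizer G δ from hδ) hy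
  have hAN : C.A ≤ N := fun a ha => by
    rw [hN, mem_normalizer_iff]
    intro y
    have hcomm : a * x = x * a := congrArg Subtype.val (mul_comm' (⟨a, ha⟩ : C.A) ⟨x, hxA⟩)
    constructor
    · intro hy
      obtain ⟨k, rfl⟩ := mem_zpowers_iff.1 hy
      rw [((show Commute a x from hcomm).zpow_right k).eq, mul_inv_cancel_right]
      exact zpow_mem (mem_zpowers x) k
    · intro hy
      obtain ⟨k, hk⟩ := mem_zpowers_iff.1 hy
      refine mem_zpowers_iff.2 ⟨k, ?_⟩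
      rw [show y = a⁻¹ * (a * y * a⁻¹) * a by group, ← hk, mul_assoc,
        ← ((show Commute a x from hcomm).zpow_right k).eq, inv_mul_cancel_left]
  set Pairs : Set ((G ⧸ C.H) × (G ⧸ C.H)) := {p | p.1 ≠ p.2 ∧ x • p.1 = p.1 ∧ x • p.2 = p.2} with hP
  have horb : orbit N ((C.o, C.o') : (G ⧸ C.H) × (G ⧸ C.H)) = Pairs := by
    refine Set.ext fun p => ⟨?_, fun hp => ?_⟩
    · rintro ⟨⟨g, hg⟩, rfl⟩
      have hgx : ∀ δ : G ⧸ C.H, x • δ = δ → x • (g • δ) = g • δ := fun δ hδ => by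
        have h1 : g⁻¹ * x * g ∈ R := by
          simpa using (mem_normalizer_iff.1 (inv_mem hg) x).1 (mem_zpowers x)
        have h2 := hfixR _ h1 δ hδ
        rwa [mul_smul, mul_smul, inv_smul_eq_iff] at h2
      exact ⟨fun h => C.o'_ne ((smul_left_cancel_iff g).1 h).symm, hgx _ (C.A_fix hxA).1,
        hgx _ (C.A_fix hxA).2⟩
    · obtain ⟨g, h1, h2⟩ := C.exists_map C.o'_ne.symm hp.1
      have hmem : g⁻¹ * x * g ∈ C.A := C.mem_A_iff.2
        ⟨by rw [mul_smul, mul_smul, h1, hp.2.1, ← h1, inv_smul_smul],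
          by rw [mul_smul, mul_smul, h2, hp.2.2, ← h2, inv_smul_smul]⟩
      have ho : orderOf (g⁻¹ * x * g) = s := by
        rw [show g⁻¹ * x * g = MulAut.conj g⁻¹ x by simp, MulEquiv.orderOf_eq, hx]
      have heq : zpowers (g⁻¹ * x * g) = R :=
        Linear.Pronormal.eq_of_card_eq_of_cyclic inferInstance (zpowers_le.2 hmem) (zpowers_le.2 hxA)
          (by rw [Nat.card_zpowers, hR, Nat.card_zpowers, ho, hx])
      have hgN : g ∈ N := by
        refine inv_inv g ▸ inv_mem ?_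
        rw [hN, mem_normalizer_iff_map_conj_eq, hR, MonoidHom.map_zpowers]
        show zpowers (MulAut.conj g⁻¹ x) = _
        rw [show MulAut.conj g⁻¹ x = g⁻¹ * x * g by simp]
        exact heq
      exact ⟨⟨g, hgN⟩, Prod.ext h1 h2⟩
  have hstab : Nat.card (stabilizer N ((C.o, C.o') : (G ⧸ C.H) × (G ⧸ C.H))) = C.q - 1 := by
    rw [← C.card_A]
    refine Nat.card_congr
      { toFun := fun g => ⟨g.1.1, C.mem_A_iff.2 ⟨congrArg Prod.fst g.2, congrArg Prod.snd g.2⟩⟩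
        invFun := fun g => ⟨⟨g.1, hAN g.2⟩, Prod.ext (C.A_fix g.2).1 (C.A_fix g.2).2⟩
        left_inv := fun _ => rfl
        right_inv := fun _ => rfl }
  have hmul : Pairs.ncard * (C.q - 1) = Nat.card N := by
    rw [← hstab, ← Nat.card_coe_set_eq, ← horb, ← Nat.card_prod]
    exact Nat.card_congr (orbitProdStabilizerEquivGroup _ _)
  set F : Finset (G ⧸ C.H) := Finset.univ.filter fun δ => x • δ = δ with hF
  have hPairs : Pairs.ncard = F.card * (F.card - 1) := by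
    have he : Pairs = (F.offDiag : Set ((G ⧸ C.H) × (G ⧸ C.H))) := by
      ext p
      simp only [hP, Set.mem_setOf_eq, Finset.coe_offDiag, Set.mem_offDiag, hF, Finset.coe_filter,
        Finset.mem_univ, true_and]
      tauto
    rw [he, Set.ncard_coe_finset, Finset.offDiag_card, Nat.mul_sub, mul_one]
  -- the fixed points other than the base point
  set Q : Subgroup G := (C.P : Subgroup G) ⊓ centralizer ({x} : Set G) with hQdef
  have hk : F.card = Nat.card Q + 1 := by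
    have ho : C.o ∈ F := by simp [hF, (C.A_fix hxA).1]
    have hb : Nat.card Q = (F.erase C.o).card := by
      rw [← Nat.card_eq_finsetCard]
      refine Nat.card_congr (Equiv.ofBijective (fun p => ⟨(p : G) • C.o', ?_⟩) ⟨?_, ?_⟩)
      · obtain ⟨p, hp, hpc⟩ := p
        rw [Finset.mem_erase, hF, Finset.mem_filter]
        refine ⟨fun h => C.o'_ne ?_, Finset.mem_univ _,
          C.fix_of_comm (mem_centralizer_singleton_iff.1 hpc) (C.A_fix hxA).2⟩
        have h' : p • C.o' = p • C.o := h.trans (C.mem_H_iff.1 (C.P_le hp)).symm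
        exact (smul_left_cancel_iff p).1 h'
      · intro p p' h
        have h1 : (p : G) • C.o' = (p' : G) • C.o' := congrArg Subtype.val h
        have h2 := C.P_regular (mul_mem (inv_mem p'.2.1) p.2.1) (by rw [mul_smul, h1, inv_smul_smul])
        exact Subtype.ext (inv_mul_eq_one.1 h2).symm
      · rintro ⟨δ, hδ⟩
        rw [Finset.mem_erase, hF, Finset.mem_filter] at hδ
        obtain ⟨p, hp, hpδ⟩ := C.exists_P_map hδ.1
        refine ⟨⟨p, hp, ?_⟩, Subtype.ext hpδ⟩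
        have hxH : x ∈ C.H := C.A_le hxA
        have hconj : x * p * x⁻¹ ∈ (C.P : Subgroup G) := (mem_normalizer_iff.1 (C.le_norm hxH) p).1 hp
        have h1 : (x * p * x⁻¹) • C.o' = p • C.o' := by
          rw [mul_smul, mul_smul, (C.A_fix (inv_mem hxA)).2, hpδ, hδ.2.2]
        have h2 := C.P_regular (mul_mem (inv_mem hp) hconj) (by rw [mul_smul, h1, inv_smul_smul])
        rw [inv_mul_eq_one, eq_mul_inv_iff_mul_eq] at h2
        exact mem_centralizer_singleton_iff.2 h2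
    rw [hb, Finset.card_erase_add_one ho]
  obtain ⟨i, hi⟩ := IsPGroup.iff_card.1 (C.P.isPGroup'.to_le (inf_le_left : Q ≤ (C.P : Subgroup G)))
  rcases Nat.eq_zero_or_pos i with rfl | hi0
  · -- two fixed points
    have h2 : F.card = 2 := by rw [hk, hi, pow_zero]
    have hsub : ({C.o, C.o'} : Finset (G ⧸ C.H)) ⊆ F := by
      intro z hz
      rw [Finset.mem_insert, Finset.mem_singleton] at hz
      rw [hF, Finset.mem_filter]
      rcases hz with rfl | rfl
      · exact ⟨Finset.mem_univ _, (C.A_fix hxA).1⟩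
      · exact ⟨Finset.mem_univ _, (C.A_fix hxA).2⟩
    have he := Finset.eq_of_subset_of_card_le hsub (by rw [h2, Finset.card_pair C.o'_ne.symm])
    have hmem : γ ∈ F := by simp [hF, hγ]
    simpa [← he] using hmem
  exfalso
  rw [hPairs, hk, hi, Nat.add_sub_cancel] at hmul
  have hdvd := card_subgroup_dvd_card N
  rw [← hmul] at hdvd
  rcases Nat.even_or_odd i with hev | hodd
  · refine not_dvd_even hev hi0.ne' (⟨n, rfl⟩ : Odd (2 * n + 1)) ?_
    have h : (3 ^ i + 1) ∣ Nat.card G := (Dvd.intro _ (mul_assoc _ _ _).symm).trans hdvd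
    rw [C.hord, mul_assoc, ← pow_mul] at h
    refine Nat.Coprime.dvd_of_dvd_mul_left ?_ (show (3 ^ i + 1) ∣ 3 ^ ((2 * n + 1) * 3) *
      ((3 ^ (3 * (2 * n + 1)) + 1) * (3 ^ (2 * n + 1) - 1)) by rwa [mul_comm 3 (2 * n + 1)])
    refine Nat.Coprime.pow_right _ (Nat.Coprime.symm ((Nat.prime_three.coprime_iff_not_dvd).2 ?_))
    rw [Nat.dvd_add_right (dvd_pow_self 3 hi0.ne')]
    norm_num
  · -- eight divides the normalizer
    have h8 : 2 ^ 3 ∣ Nat.card N := by
      rw [← hmul]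
      have h4 : 4 ∣ 3 ^ i + 1 := by
        obtain ⟨j, rfl⟩ := hodd
        rw [pow_succ, pow_mul, Nat.dvd_iff_mod_eq_zero, Nat.add_mod, Nat.mul_mod, Nat.pow_mod]
        norm_num
      have := C.q_mem.1
      exact Dvd.dvd.trans (by norm_num) (mul_dvd_mul (h4.mul_right (3 ^ i)) (show 2 ∣ C.q - 1 by omega))
    obtain ⟨E, hE⟩ := Sylow.exists_subgroup_card_pow_prime 2 h8
    obtain ⟨hsq, hcomm, -⟩ := C.S.isPGroup_sq (H := E.map N.subtype)
      ((IsPGroup.of_card hE).map _)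
    set E' := E.map N.subtype with hE'
    have hE8 : Nat.card E' = 8 := by
      rw [hE', Nat.card_congr (equivMapOfInjective E _ N.subtype_injective).toEquiv.symm, hE]
      norm_num
    haveI : Fact s.Prime := ⟨hs⟩
    have hpm : ∀ u ∈ E', u * x * u⁻¹ = x ∨ u * x * u⁻¹ = x⁻¹ := by
      intro u hu
      have huN : u ∈ N := by obtain ⟨w, -, rfl⟩ := hu; exact w.2
      obtain ⟨k, hk'⟩ := mem_zpowers_iff.1 ((mem_normalizer_iff.1 huN x).1 (mem_zpowers x))
      have h2 : x = x ^ (k * k) := by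
        rw [_root_.zpow_mul, hk', conj_zpow, hk', ← mul_assoc, ← mul_assoc, hsq u hu, one_mul,
          mul_assoc, ← mul_inv_rev, hsq u hu, inv_one, mul_one]
      have h3 : (s : ℤ) ∣ k * k - 1 := by
        rw [← hx]
        exact orderOf_dvd_iff_zpow_eq_one.2 (by rw [_root_.zpow_sub, zpow_one, ← h2, mul_inv_cancel])
      rw [show k * k - 1 = (k - 1) * (k + 1) by ring] at h3
      rcases (Int.Prime.dvd_mul' hs h3) with h | h
      · left
        rw [← hk', show k = (k - 1) + 1 by ring, zpow_add, zpow_one,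
          orderOf_dvd_iff_zpow_eq_one.1 (hx.symm ▸ h), one_mul]
      · right
        rw [← hk', show k = (k + 1) - 1 by ring, _root_.zpow_sub, zpow_one,
          orderOf_dvd_iff_zpow_eq_one.1 (hx.symm ▸ h), one_mul]
    set E₀ := E' ⊓ centralizer ({x} : Set G) with hE₀
    have h4 : 4 ≤ Nat.card E₀ := by
      by_contra hlt
      have hsplit : ∃ u₀ : G, ∀ u ∈ E', u ∈ E₀ ∨ u₀ * u ∈ E₀ := by
        by_cases hex : ∃ u₀ ∈ E', u₀ * x * u₀⁻¹ = x⁻¹
        · obtain ⟨u₀, hu₀, h0⟩ := hex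
          refine ⟨u₀, fun u hu => ?_⟩
          rcases hpm u hu with h | h
          · exact Or.inl ⟨hu, mem_centralizer_singleton_iff.2 (mul_inv_eq_iff_eq_mul.1 h)⟩
          · refine Or.inr ⟨mul_mem hu₀ hu, mem_centralizer_singleton_iff.2 (mul_inv_eq_iff_eq_mul.1 ?_)⟩
            rw [mul_inv_rev, show u₀ * u * x * (u⁻¹ * u₀⁻¹) = u₀ * (u * x * u⁻¹) * u₀⁻¹ by group, h,
              show u₀ * x⁻¹ * u₀⁻¹ = (u₀ * x * u₀⁻¹)⁻¹ by group, h0, inv_inv]
        · push Not at hex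
          exact ⟨1, fun u hu => Or.inl ⟨hu, mem_centralizer_singleton_iff.2
            (mul_inv_eq_iff_eq_mul.1 ((hpm u hu).resolve_right (hex u hu)))⟩⟩
      obtain ⟨u₀, hu₀⟩ := hsplit
      haveI := Fintype.ofFinite G
      have hsub : (E' : Set G).toFinset ⊆ (E₀ : Set G).toFinset ∪
          ((E₀ : Set G).toFinset.image fun u => u₀⁻¹ * u) := by
        intro u hu
        rw [Set.mem_toFinset] at hu
        rw [Finset.mem_union, Finset.mem_image]
        rcases hu₀ u hu with h | h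
        · exact Or.inl (Set.mem_toFinset.2 h)
        · exact Or.inr ⟨_, Set.mem_toFinset.2 h, by group⟩
      have h1 := (Finset.card_le_card hsub).trans ((Finset.card_union_le _ _).trans
        (Nat.add_le_add_left Finset.card_image_le _))
      rw [← Set.ncard_eq_toFinset_card', ← Set.ncard_eq_toFinset_card', ← Nat.card_coe_set_eq,
        ← Nat.card_coe_set_eq, SetLike.coe_sort_coe, SetLike.coe_sort_coe, hE8] at h1
      omega
    haveI : Nontrivial E₀ := Finite.one_lt_card_iff_nontrivial.1 (by omega)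
    obtain ⟨u₁, hu₁⟩ := exists_ne (1 : E₀)
    obtain ⟨u₂, hu₂, hu₂'⟩ : ∃ u₂ : E₀, u₂ ≠ 1 ∧ u₂ ≠ u₁ := by
      by_contra hall
      push Not at hall
      haveI := Fintype.ofFinite E₀
      have h1 : (Finset.univ : Finset E₀) ⊆ {1, u₁} := fun z _ => by
        by_cases hz : z = 1
        · simp [hz]
        · simp [hall z hz]
      have h2 := (Finset.card_le_card h1).trans Finset.card_le_two
      rw [Finset.card_univ, ← Nat.card_eq_fintype_card] at h2
      omega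
    exact C.not_two_invol hs hd hx ⟨fun h => hu₁ (Subtype.ext h), hsq _ u₁.2.1⟩
      ⟨fun h => hu₂ (Subtype.ext h), hsq _ u₂.2.1⟩ (fun h => hu₂' (Subtype.ext h).symm)
      (hcomm _ u₁.2.1 _ u₂.2.1) (mem_centralizer_singleton_iff.1 u₁.2.2).symm
      (mem_centralizer_singleton_iff.1 u₂.2.2).symm

/-- An element of odd prime order dividing `q - 1` is conjugate into the base torus. -/
theorem exists_conj_A {s : ℕ} (hs : s.Prime) (hd : s ∣ 2 * T - 1) {x : G} (hx : orderOf x = s) :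
    ∃ g : G, g⁻¹ * x * g ∈ C.A := by
  haveI : Fact s.Prime := ⟨hs⟩
  obtain ⟨hoa, -, -, -, -⟩ := ReeTwoTrans.torus_facts C.S
  have hfac := ReeTwoTrans.torus_sylow C.S C.hord hs hd
  set Z := zpowers (C.S.φ C.S.D.a) with hZ
  obtain ⟨P₀⟩ := (inferInstance : Nonempty (Sylow s Z))
  let P₁ : Sylow s G := Sylow.ofCard ((P₀ : Subgroup Z).map Z.subtype) (by
    rw [← Nat.card_congr (equivMapOfInjective _ _ Z.subtype_injective).toEquiv,
      P₀.card_eq_multiplicity, hZ, Nat.card_zpowers, hoa, hfac])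
  obtain ⟨Q, hQ⟩ := (IsPGroup.of_card (n := 1) (by rw [Nat.card_zpowers, hx, pow_one]) :
    IsPGroup s (zpowers x)).exists_le_sylow
  obtain ⟨g, rfl⟩ := exists_smul_eq G P₁ Q
  have hxQ := hQ (mem_zpowers x)
  rw [Sylow.coe_subgroup_smul] at hxQ
  obtain ⟨y, hy, hyx⟩ := hxQ
  have hy' : y ∈ (P₀ : Subgroup Z).map Z.subtype := hy
  refine ⟨g, ?_⟩
  rw [show g⁻¹ * x * g = y by rw [← hyx]; simp [mul_assoc]]
  exact (zpowers_le.2 C.a_mem_A) (map_subtype_le _ hy')

/-- An element of odd prime order dividing `q - 1` fixes exactly two points. -/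
theorem split_fix {s : ℕ} (hs : s.Prime) (hd : s ∣ 2 * T - 1) {x : G} (hx : orderOf x = s) :
    ∃ α β : G ⧸ C.H, α ≠ β ∧ x • α = α ∧ x • β = β ∧ ∀ γ, x • γ = γ → γ = α ∨ γ = β := by
  obtain ⟨g, hg⟩ := C.exists_conj_A hs hd hx
  have hy : x = g * (g⁻¹ * x * g) * g⁻¹ := by group
  have ho : orderOf (g⁻¹ * x * g) = s := by
    rw [show g⁻¹ * x * g = MulAut.conj g⁻¹ x by simp, MulEquiv.orderOf_eq, hx]
  refine ⟨g • C.o, g • C.o', fun h => C.o'_ne ((smul_left_cancel_iff g).1 h).symm,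
    hy ▸ C.orbit_fix (C.A_fix hg).1, hy ▸ C.orbit_fix (C.A_fix hg).2, fun γ hγ => ?_⟩
  have h := C.base_fix hs hd hg ho (γ := g⁻¹ • γ) (by rw [mul_smul, mul_smul, smul_inv_smul, hγ])
  rcases h with h | h
  · exact Or.inl (by rw [← h, smul_inv_smul])
  · exact Or.inr (by rw [← h, smul_inv_smul])

end Ctx

end Cfsg.Lib.PiOdd
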