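import Cfsg.Agent.Lib.PiOdd.Split
import Cfsg.Agent.Lib.Coprime.Generation
import Cfsg.Agent.Lib.ReeType.TorusNormalizer

/-!
# The centralizer of the torus of order `(q + 1)/4`

Its elements fix no point, so they commute with no element of order three; so the centralizer has a
normal 2-complement generated by its parts centralizing the involutions of the four-group.
-/

set_option autoImplicit false
set_option linter.unusedSectionVars false
set_option linter.style.haveILetI false

namespace Cfsg.Lib.PiOdd.Ctx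

open Subgroup Cfsg Cfsg.Lib.ReeType MulAction

universe u v

variable {G : Type u} {L : Type v} [Group G] [Group L] [Finite G] {n T : ℕ} [IsSimpleGroup G]
  (C : Ctx G L n T)
include C

theorem torus_arith : 4 * T = C.q + 1 ∧ T % 2 = 1 ∧ 7 ≤ T ∧ ¬ 3 ∣ T :=
  ⟨C.S.hT, C.S.q_facts.2.2.1, C.S.q_facts.2.2.2.1, C.S.q_facts.2.2.2.2.1⟩

theorem not_dvd_card_H {r : ℕ} (hr : r.Prime) (hd : r ∣ T) : ¬ r ∣ Nat.card C.H := by
  obtain ⟨h4, h2, h7, h3⟩ := C.torus_arith
  rw [C.card_H, hr.dvd_mul]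
  rintro (h | h)
  · have h' := (hr.dvd_of_dvd_pow h)
    have := (Nat.prime_dvd_prime_iff_eq hr Nat.prime_three).1 (hr.dvd_of_dvd_pow h')
    exact h3 (this ▸ hd)
  · have h1 : r ∣ 2 := by
      have h5 : r ∣ C.q + 1 := h4 ▸ hd.mul_left 4
      have := Nat.dvd_sub h5 h
      rwa [show C.q + 1 - (C.q - 1) = 2 by omega] at this
    have := (Nat.prime_dvd_prime_iff_eq hr Nat.prime_two).1 h1
    subst this
    omega

/-- An element of prime order dividing `T` fixes no point. -/
theorem torus_no_fix {r : ℕ} (hr : r.Prime) (hd : r ∣ T) {x : G} (hx : orderOf x = r) (α : G ⧸ C.H) :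
    x • α ≠ α := by
  intro h
  obtain ⟨g, rfl⟩ := C.exists_to α
  refine C.not_dvd_card_H hr hd ?_
  have hm : g⁻¹ * x * g ∈ C.H := C.mem_H_iff.2 (by rw [mul_smul, mul_smul, h, inv_smul_smul])
  rw [← hx, show orderOf x = orderOf (g⁻¹ * x * g) by
    rw [show g⁻¹ * x * g = MulAut.conj g⁻¹ x by simp, MulEquiv.orderOf_eq]]
  exact Subgroup.orderOf_dvd_natCard _ hm

theorem no_three_commute {r : ℕ} (hr : r.Prime) (hd : r ∣ T) {x y : G} (hx : orderOf x = r)
    (hy : orderOf y = 3) (h : x * y = y * x) : False := by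
  obtain ⟨α, hα, huniq⟩ := C.three_fix hy
  exact C.torus_no_fix hr hd hx α (huniq _ (C.fix_of_comm h hα))

/-- The four-group has only three involutions. -/
theorem inV_three {x y z w : G} (hx : C.S.InV x) (hy : C.S.InV y) (hz : C.S.InV z) (hw : C.S.InV w)
    (hx1 : x ≠ 1) (hy1 : y ≠ 1) (hz1 : z ≠ 1) (hw1 : w ≠ 1) (hxy : x ≠ y) (hxz : x ≠ z) (hyz : y ≠ z) :
    w = x ∨ w = y ∨ w = z := by
  classical
  set W : Finset G := {C.S.t, C.S.φ C.S.D.z, C.S.t * C.S.φ C.S.D.z} with hW
  have hmem : ∀ u, C.S.InV u → u ≠ 1 → u ∈ W := by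
    intro u hu hu1
    rcases hu with h | h | h | h
    · exact absurd h hu1
    · simp [hW, h]
    · simp [hW, h]
    · simp [hW, h]
  have hsub : ({x, y, z} : Finset G) ⊆ W := by
    intro u hu
    simp only [Finset.mem_insert, Finset.mem_singleton] at hu
    rcases hu with rfl | rfl | rfl
    · exact hmem _ hx hx1
    · exact hmem _ hy hy1
    · exact hmem _ hz hz1
  have he := Finset.eq_of_subset_of_card_le hsub (by
    rw [show ({x, y, z} : Finset G).card = 3 by
      rw [Finset.card_insert_of_notMem (by simp [hxy, hxz]), Finset.card_pair hyz]]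
    exact Finset.card_le_three)
  simpa [← he] using hmem w hw hw1

/-- The centralizer of an element of prime order of the torus is the torus. -/
theorem cent_torus_elem {r : ℕ} (hr : r.Prime) (hd : r ∣ T) {τ : G} (hτ : τ ∈ C.S.Tsub)
    (hτo : orderOf τ = r) {g : G} (hg : g * τ = τ * g) : g ∈ C.S.K := by
  classical
  haveI : Fact r.Prime := ⟨hr⟩
  haveI : Fact (Nat.Prime 2) := ⟨Nat.prime_two⟩
  have hτr : τ ^ r = 1 := hτo ▸ pow_orderOf_eq_one τ
  have hτ1 : τ ≠ 1 := fun h => by rw [h, orderOf_one] at hτo; exact hr.ne_one hτo.symm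
  set Z := centralizer ({τ} : Set G) with hZ
  have hV : C.S.Vsub ≤ Z := fun v hv => mem_centralizer_singleton_iff.2
    (C.S.K_comm (C.S.Vsub_le hv) (C.S.Tsub_le hτ))
  have hcent : ∀ v, C.S.InV v → v ≠ 1 → ∀ x ∈ Z, x * v = v * x → x ∈ C.S.K := fun v hv hv1 x hx hxv =>
    C.S.cent_inV C.hna hd hτ hτr hτ1 hv hv1 hxv (mem_centralizer_singleton_iff.1 hx)
  -- the Sylow two-subgroup
  obtain ⟨P, hP⟩ := ((IsPGroup.of_card (p := 2) (n := 2) (by rw [C.S.card_Vsub]; norm_num) :
    IsPGroup 2 C.S.Vsub).comap_of_injective Z.subtype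
    Z.subtype_injective).exists_le_sylow
  obtain ⟨hsq, hcomm, -⟩ := C.S.isPGroup_sq (H := (P : Subgroup Z).map Z.subtype) (P.isPGroup'.map _)
  have hPV : ∀ x : Z, x ∈ (P : Subgroup Z) ↔ C.S.InV x := by
    refine fun x => ⟨fun hx => ?_, fun hx => hP (C.S.mem_Vsub.2 hx)⟩
    have ht : (⟨C.S.t, hV (C.S.mem_Vsub.2 C.S.t_inV)⟩ : Z) ∈ (P : Subgroup Z) :=
      hP (C.S.mem_Vsub.2 C.S.t_inV)
    exact C.S.inV_iff.2 ⟨hcent _ C.S.t_inV C.S.t_ne _ x.2 (hcomm _ ⟨x, hx, rfl⟩ _ ⟨_, ht, rfl⟩),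
      hsq _ ⟨x, hx, rfl⟩⟩
  -- its normalizer centralizes it
  have hN : normalizer ((P : Subgroup Z) : Set Z) ≤ centralizer ((P : Subgroup Z) : Set Z) := by
    intro x hx
    have hnorm : ∀ v, C.S.InV v → C.S.InV ((x : G) * v * (x : G)⁻¹) := fun v hv => by
      have h := (mem_normalizer_iff.1 hx ⟨v, hV (C.S.mem_Vsub.2 hv)⟩).1 ((hPV _).2 hv)
      exact (hPV _).1 h
    by_cases hfix : ∃ v, C.S.InV v ∧ v ≠ 1 ∧ (x : G) * v * (x : G)⁻¹ = v
    · obtain ⟨v, hv, hv1, hxv⟩ := hfix
      have hxK := hcent v hv hv1 _ x.2 (mul_inv_eq_iff_eq_mul.1 hxv)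
      refine mem_centralizer_iff.2 fun w hw => Subtype.ext ?_
      exact C.S.K_comm ((hPV w).1 hw).mem_K hxK
    · exfalso
      push Not at hfix
      have hcube : ∀ v, C.S.InV v → v ≠ 1 → (x : G) ^ 3 * v * ((x : G) ^ 3)⁻¹ = v := by
        intro v hv hv1
        set a := (x : G) with ha
        have hne : ∀ w : G, w ≠ 1 → a * w * a⁻¹ ≠ 1 := fun w hw h => hw (conj_eq_one_iff.1 h)
        have h1 := hnorm v hv
        have h2 := hnorm _ h1
        have h3 := hnorm _ h2
        rw [show a ^ 3 * v * (a ^ 3)⁻¹ = a * (a * (a * v * a⁻¹) * a⁻¹) * a⁻¹ by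
          rw [pow_three]; group]
        have n1 := hfix v hv hv1
        have n2 := hfix _ h1 (hne _ hv1)
        have n3 := hfix _ h2 (hne _ (hne _ hv1))
        have n4 : a * (a * v * a⁻¹) * a⁻¹ ≠ v := by
          intro h
          -- the third involution would be fixed
          obtain ⟨w, hw, hw1, hwv, hwv'⟩ : ∃ w, C.S.InV w ∧ w ≠ 1 ∧ w ≠ v ∧ w ≠ a * v * a⁻¹ :=
            ⟨v * (a * v * a⁻¹), C.S.mem_Vsub.1 (mul_mem (C.S.mem_Vsub.2 hv) (C.S.mem_Vsub.2 h1)),
              fun e => n1 (by rw [eq_inv_of_mul_eq_one_right e, inv_eq_of_mul_eq_one_right hv.sq]),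
              fun e => hne _ hv1 (mul_left_cancel (e.trans (mul_one v).symm)),
              fun e => hv1 (mul_right_cancel (e.trans (one_mul _).symm))⟩
          have h4 := hnorm w hw
          have e1 : a * w * a⁻¹ ≠ v := fun e => hwv' (by
            refine mul_left_cancel (a := a) (mul_right_cancel (b := a⁻¹) ?_)
            rw [e, h])
          have e2 : a * w * a⁻¹ ≠ a * v * a⁻¹ := fun e => hwv (mul_left_cancel (mul_right_cancel e))
          have e3 := hfix w hw hw1
          rcases C.inV_three hv h1 hw h4 hv1 (hne _ hv1) hw1 (hne _ hw1) n1.symm hwv.symm hwv'.symm with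
            e | e | e
          · exact e1 e
          · exact e2 e
          · exact e3 e
        rcases C.inV_three hv h1 h2 h3 hv1 (hne _ hv1) (hne _ (hne _ hv1)) (hne _ (hne _ (hne _ hv1)))
            n1.symm n4.symm n2.symm with e | e | e
        · exact e
        · exact absurd (mul_left_cancel (mul_right_cancel e)) n4
        · exact absurd e n3
      have hx3 : (x : G) ^ 3 ∈ C.S.K := hcent C.S.t C.S.t_inV C.S.t_ne _ (pow_mem x.2 3)
        (mul_inv_eq_iff_eq_mul.1 (hcube C.S.t C.S.t_inV C.S.t_ne))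
      have h3 : 3 ∣ orderOf (x : G) := by
        by_contra h3
        obtain ⟨k, hk⟩ := exists_pow_eq_self_of_coprime
          (show Nat.Coprime 3 (orderOf (x : G)) from (Nat.prime_three.coprime_iff_not_dvd).2 h3)
        exact hfix C.S.t C.S.t_inV C.S.t_ne (mul_inv_eq_iff_eq_mul.2
          (C.S.K_comm (hk ▸ pow_mem hx3 k) C.S.t_mem_K))
      refine C.no_three_commute hr hd hτo
        (orderOf_pow_orderOf_div (orderOf_pos (x : G)).ne' h3) ?_
      exact (((show Commute (x : G) τ from mem_centralizer_singleton_iff.1 x.2).pow_left _).symm).eq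
  set M := (MonoidHom.transferSylow P hN).ker with hM
  have hc := MonoidHom.ker_transferSylow_isComplement' P hN
  have hodd : Odd (Nat.card (M.map Z.subtype)) := by
    rw [← Nat.card_congr (equivMapOfInjective M _ Z.subtype_injective).toEquiv, Nat.odd_iff]
    by_contra h
    exact MonoidHom.not_dvd_card_ker_transferSylow P hN
      (Nat.dvd_of_mod_eq_zero ((Nat.mod_two_eq_zero_or_one _).resolve_right h))
  haveI : IsMulCommutative C.S.Vsub := ⟨⟨fun a b => Subtype.ext
    (C.S.K_comm (C.S.Vsub_le a.2) (C.S.Vsub_le b.2))⟩⟩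
  have hVM : C.S.Vsub ≤ normalizer ((M.map Z.subtype : Subgroup G) : Set G) := by
    intro v hv
    have h : (⟨v, hV hv⟩ : Z) ∈ normalizer (M : Set Z) := by
      rw [normalizer_eq_top]; exact mem_top _
    exact le_normalizer_map Z.subtype ⟨_, h, rfl⟩
  have hnc : ¬ IsCyclic C.S.Vsub := fun h => by
    haveI := Fintype.ofFinite C.S.Vsub
    have h1 := IsCyclic.card_pow_eq_one_le (α := C.S.Vsub) two_pos
    rw [Finset.filter_true_of_mem (fun v _ => Subtype.ext (by
      rw [Subgroup.coe_pow, sq]; exact (C.S.mem_Vsub.1 v.2).sq)), Finset.card_univ,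
      ← Nat.card_eq_fintype_card, C.S.card_Vsub] at h1
    omega
  have hcop : (Nat.card C.S.Vsub).Coprime (Nat.card (M.map Z.subtype)) := by
    rw [C.S.card_Vsub, show (4 : ℕ) = 2 ^ 2 from rfl]
    exact (Nat.coprime_two_left.2 hodd).pow_left 2
  have hMK : M.map Z.subtype ≤ C.S.K :=
    (Coprime.le_iSup_centralizer_of_not_isCyclic hnc hVM hcop).trans (iSup_le fun a x hx =>
      hcent a (C.S.mem_Vsub.1 a.2.1) a.2.2 x (map_subtype_le _ hx.1)
        (mem_centralizer_singleton_iff.1 hx.2))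
  obtain ⟨⟨m, p⟩, hmp⟩ := hc.2 ⟨g, mem_centralizer_singleton_iff.2 hg⟩
  have h : (m : G) * (p : G) = g := by
    have := congrArg Subtype.val hmp
    simpa using this
  rw [← h]
  exact mul_mem (hMK ⟨m, m.2, rfl⟩) ((hPV p).1 p.2).mem_K

end Cfsg.Lib.PiOdd.Ctx
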